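import Groth.Agent.Hopf.K503.QuotCoact
import Groth.Agent.HopfRep.K190.TrigMult
import Groth.Agent.Books.AffBridge2

/-!
# Exact sequences of finite commutative Hopf algebras over a field, by dimensions
-/

set_option autoImplicit false

universe u

open TensorProduct

namespace K411.FieldSeq

variable {k : Type u} [Field k] {P Q N : Type u} [CommRing P] [HopfAlgebra k P] [CommRing Q] [HopfAlgebra k Q]
  [CommRing N] [HopfAlgebra k N]

theorem mem_B_iff (π : P →ₐc[k] N) (hπ : Function.Surjective π) (a : P) : a ∈ K503.QuotCoact.B π ↔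
    a ∈ Groth.Agent.Sga3C.NormalHopfD.coinv k (RingHom.ker (π : P →ₐ[k] N)) := by
  rw [Groth.Agent.Sga3.H785.HopfCorr.mem_coinv_iff, K503.QuotCoact.mem_B]
  have hex0 : Function.Exact ((RingHom.ker (π : P →ₐ[k] N)).restrictScalars k).subtype
      (π : P →ₐ[k] N).toLinearMap := by
    intro x
    constructor
    · intro hx
      exact ⟨⟨x, hx⟩, rfl⟩
    · rintro ⟨x, rfl⟩
      exact x.2
  have hex := lTensor_exact P hex0 hπ
  have hex' := hex (CoalgebraStruct.comul (R := k) (A := P) a - a ⊗ₜ[k] (1 : P))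
  have h1 : LinearMap.lTensor P (π : P →ₐ[k] N).toLinearMap (a ⊗ₜ[k] (1 : P)) = a ⊗ₜ 1 := by
    rw [LinearMap.lTensor_tmul]
    congr 1
    exact map_one π
  rw [map_sub, h1, sub_eq_zero] at hex'
  exact hex'

/-- exactness in the middle, by dimensions -/
theorem ker_eq [Module.Finite k P] (f : Q →ₐc[k] P) (hf : Function.Injective f) (π : P →ₐc[k] N)
    (hπ : Function.Surjective π) (ht : ∀ x, π (f x) = algebraMap k N (Coalgebra.counit x))
    (hd : Module.finrank k P = Module.finrank k Q * Module.finrank k N) :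
    RingHom.ker (π : P →ₐ[k] N) = SGA3.augIdealSpan k P (f : Q →ₐ[k] P).range := by
  have hfin : Module.Finite k N := Module.Finite.of_surjective (π : P →ₐ[k] N).toLinearMap hπ
  have hI := K188.TrigUnip.isHopfIdeal_map f
  rw [← K190.TrigMult.augIdealSpan_range] at hI
  set I := SGA3.augIdealSpan k P (f : Q →ₐ[k] P).range with hIdef
  have h1 := K503.QuotCoact.finrank_eq (Bialgebra.Quotient.mkBialgHom (R := k) I) Ideal.Quotient.mk_surjective
  have h2 : K503.QuotCoact.B (Bialgebra.Quotient.mkBialgHom (R := k) I) = (f : Q →ₐ[k] P).range := by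
    rw [← Groth.Agent.Sga3.H785.HopfCorr.coinv_augIdealSpan (K190.TrigMult.isHopfSubalgebra_range f)]
    ext a
    rw [mem_B_iff _ Ideal.Quotient.mk_surjective]
    have h3 : RingHom.ker ((Bialgebra.Quotient.mkBialgHom (R := k) I : P →ₐc[k] P ⧸ I) : P →ₐ[k] P ⧸ I) = I := by
      ext x
      exact Ideal.Quotient.eq_zero_iff_mem
    rw [h3]
  have h4 : Module.finrank k (f : Q →ₐ[k] P).range = Module.finrank k Q :=
    (AlgEquiv.ofInjective (f : Q →ₐ[k] P) hf).toLinearEquiv.finrank_eq.symm
  rw [h2, h4, hd] at h1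
  have hQ : 0 < Module.finrank k Q := by
    have : Module.Finite k Q := Module.Finite.of_injective (f : Q →ₐ[k] P).toLinearMap hf
    have : Nontrivial Q := by
      refine ⟨0, 1, fun h => ?_⟩
      have := congrArg (Bialgebra.counitAlgHom k Q) h
      rw [map_zero, map_one] at this
      exact zero_ne_one this
    exact Module.finrank_pos
  have h5 : Module.finrank k N = Module.finrank k (P ⧸ I) := Nat.eq_of_mul_eq_mul_left hQ h1
  have hle : I ≤ RingHom.ker (π : P →ₐ[k] N) := by
    rw [hIdef, SGA3.augIdealSpan, Ideal.span_le]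
    rintro _ ⟨⟨x, rfl⟩, hx⟩
    change π (f x) = 0
    rw [ht, ← CoalgHomClass.counit_comp_apply f x]
    change algebraMap k N (CoalgebraStruct.counit ((f : Q →ₐ[k] P) x)) = 0
    have hx' : CoalgebraStruct.counit (R := k) ((f : Q →ₐ[k] P) x) = 0 := hx
    rw [hx', map_zero]
  refine le_antisymm (fun x hx => ?_) hle
  let g : (P ⧸ I) →ₗ[k] N := (Ideal.Quotient.liftₐ I (π : P →ₐ[k] N) (fun a ha => hle ha)).toLinearMap
  have hgs : Function.Surjective g := fun y => by
    obtain ⟨x, rfl⟩ := hπ y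
    exact ⟨Ideal.Quotient.mk I x, rfl⟩
  have hgi : Function.Injective g := (LinearMap.injective_iff_surjective_of_finrank_eq_finrank h5.symm).2 hgs
  rw [← Ideal.Quotient.eq_zero_iff_mem]
  apply hgi
  rw [map_zero]
  exact hx

/-- surjectivity on quotients -/
theorem surjective [Module.Finite k P] {P' Q' : Type u} [CommRing P'] [HopfAlgebra k P'] [Module.Finite k P']
    [CommRing Q'] [HopfAlgebra k Q']
    (f : Q →ₐc[k] P) (hf : Function.Injective f) (f' : Q' →ₐc[k] P') (hf' : Function.Injective f')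
    (r : P →ₐc[k] P') (hr : Function.Surjective r) (s : Q →ₐc[k] Q') (hs : ∀ x, f' (s x) = r (f x))
    (π : P' →ₐc[k] N) (hπ : Function.Surjective π) (ht : ∀ x, π (f' x) = algebraMap k N (Coalgebra.counit x))
    (hd : Module.finrank k P = Module.finrank k Q * Module.finrank k N)
    (hd' : Module.finrank k P' = Module.finrank k Q' * Module.finrank k N) : Function.Surjective s := by
  have h1 := ker_eq f hf (π.comp r) (fun y => by
    obtain ⟨x, rfl⟩ := hπ y
    obtain ⟨z, rfl⟩ := hr x
    exact ⟨z, rfl⟩) (fun x => by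
      change π (r (f x)) = _
      rw [← hs, ht, CoalgHomClass.counit_comp_apply]) hd
  have h2 := ker_eq f' hf' π hπ ht hd'
  have h3 : RingHom.ker (π : P' →ₐ[k] N) = SGA3.augIdealSpan k P' ((r.comp f : Q →ₐc[k] P') : Q →ₐ[k] P').range := by
    rw [K190.TrigMult.augIdealSpan_range] at h1 ⊢
    have e1 : Ideal.map ((r.comp f : Q →ₐc[k] P') : Q →+* P') (RingHom.ker (Bialgebra.counitAlgHom k Q)) =
        Ideal.map (r : P →+* P') (Ideal.map (f : Q →+* P) (RingHom.ker (Bialgebra.counitAlgHom k Q))) := by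
      rw [Ideal.map_map]
      rfl
    rw [e1, ← h1]
    ext y
    rw [Ideal.mem_map_iff_of_surjective (r : P →+* P') hr]
    constructor
    · intro hy
      obtain ⟨x, rfl⟩ := hr y
      exact ⟨x, hy, rfl⟩
    · rintro ⟨x, hx, rfl⟩
      exact hx
  have h4 : ((r.comp f : Q →ₐc[k] P') : Q →ₐ[k] P').range = (f' : Q' →ₐ[k] P').range := by
    rw [← Groth.Agent.Sga3.H785.HopfCorr.coinv_augIdealSpan (K190.TrigMult.isHopfSubalgebra_range (r.comp f)),
      ← Groth.Agent.Sga3.H785.HopfCorr.coinv_augIdealSpan (K190.TrigMult.isHopfSubalgebra_range f'), ← h3, ← h2]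
  intro y
  have h5 : f' y ∈ ((r.comp f : Q →ₐc[k] P') : Q →ₐ[k] P').range := by
    rw [h4]
    exact ⟨y, rfl⟩
  obtain ⟨x, hx⟩ := h5
  refine ⟨x, hf' ?_⟩
  rw [hs]
  exact hx

end K411.FieldSeq
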