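import Mathlib.RingTheory.HopfAlgebra.Convolution
import Mathlib.RingTheory.Bialgebra.Convolution
import Mathlib.RingTheory.Flat.Basic
import Mathlib.RingTheory.Flat.FaithfullyFlat.Basic

/-!
# Lifting bialgebra maps through injective bialgebra maps (flat case); powers of the identity
-/

set_option autoImplicit false
set_option linter.unusedSectionVars false

universe u v w x

open TensorProduct WithConv

namespace K411.Lift

variable {R : Type u} [CommRing R]

theorem isCocomm_of_injective {A B : Type*} [CommRing A] [CommRing B] [Bialgebra R A] [Bialgebra R B]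
    [Module.Flat R A] [Module.Flat R B]
    [Coalgebra.IsCocomm R A] (f : B →ₐc[R] A) (hf : Function.Injective f) : Coalgebra.IsCocomm R B where
  comm_comp_comul := by
    ext b
    change TensorProduct.comm R B B (CoalgebraStruct.comul (R := R) b) = CoalgebraStruct.comul (R := R) b
    have hinj : Function.Injective (TensorProduct.map (f : B →ₗ[R] A) (f : B →ₗ[R] A)) :=
      TensorProduct.map_injective_of_flat_flat _ _ hf hf
    apply hinj
    have h1 : TensorProduct.map (f : B →ₗ[R] A) (f : B →ₗ[R] A) (CoalgebraStruct.comul (R := R) b) =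
        CoalgebraStruct.comul (R := R) (f b) :=
      CoalgHomClass.map_comp_comul_apply f b
    have h2 : ∀ z : B ⊗[R] B, TensorProduct.map (f : B →ₗ[R] A) (f : B →ₗ[R] A) (TensorProduct.comm R B B z) =
        TensorProduct.comm R A A (TensorProduct.map (f : B →ₗ[R] A) (f : B →ₗ[R] A) z) := by
      intro z
      induction z with
      | zero => simp
      | add x y hx hy => simp only [map_add, hx, hy]
      | tmul x y => rfl
    rw [h2, h1, Coalgebra.comm_comul]

theorem isCocomm_of_surjective {A B : Type*} [CommRing A] [CommRing B] [Bialgebra R A] [Bialgebra R B]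
    [Coalgebra.IsCocomm R A] (f : A →ₐc[R] B) (hf : Function.Surjective f) : Coalgebra.IsCocomm R B where
  comm_comp_comul := by
    ext b
    obtain ⟨a, rfl⟩ := hf b
    change TensorProduct.comm R B B (CoalgebraStruct.comul (R := R) (f a)) = CoalgebraStruct.comul (R := R) (f a)
    have h1 : TensorProduct.map (f : A →ₗ[R] B) (f : A →ₗ[R] B) (CoalgebraStruct.comul (R := R) a) =
        CoalgebraStruct.comul (R := R) (f a) :=
      CoalgHomClass.map_comp_comul_apply f a
    have h2 : ∀ z : A ⊗[R] A, TensorProduct.map (f : A →ₗ[R] B) (f : A →ₗ[R] B) (TensorProduct.comm R A A z) =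
        TensorProduct.comm R B B (TensorProduct.map (f : A →ₗ[R] B) (f : A →ₗ[R] B) z) := by
      intro z
      induction z with
      | zero => simp
      | add x y hx hy => simp only [map_add, hx, hy]
      | tmul x y => rfl
    rw [← h1, ← h2, Coalgebra.comm_comul]

/-- Bialgebra maps whose values lie in the range of an injective bialgebra map lift. -/
theorem exists_lift {S : Type v} {T : Type w} {P : Type x} [CommRing S] [CommRing T] [CommRing P] [Bialgebra R S]
    [Bialgebra R T] [Bialgebra R P] [Module.Flat R S] [Module.Flat R P] (κ : S →ₐc[R] P)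
    (hκ : Function.Injective κ) (g : T →ₐc[R] P) (h : ∀ t, ∃ s, κ s = g t) :
    ∃ g' : T →ₐc[R] S, ∀ t, κ (g' t) = g t := by
  let e := AlgEquiv.ofInjective (κ : S →ₐ[R] P) hκ
  let g₀ : T →ₐ[R] S := e.symm.toAlgHom.comp ((g : T →ₐ[R] P).codRestrict (κ : S →ₐ[R] P).range h)
  have hg₀ : ∀ t, κ (g₀ t) = g t := fun t =>
    congrArg Subtype.val (e.apply_symm_apply ((g : T →ₐ[R] P).codRestrict (κ : S →ₐ[R] P).range h t))
  have hinj : Function.Injective (TensorProduct.map (κ : S →ₗ[R] P) (κ : S →ₗ[R] P)) :=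
    TensorProduct.map_injective_of_flat_flat _ _ hκ hκ
  refine ⟨BialgHom.ofAlgHom g₀ ?_ ?_, hg₀⟩
  · ext t
    change Coalgebra.counit (R := R) (g₀ t) = Coalgebra.counit (R := R) t
    rw [← CoalgHomClass.counit_comp_apply κ, hg₀, CoalgHomClass.counit_comp_apply]
  · ext t
    apply hinj
    change TensorProduct.map (κ : S →ₗ[R] P) (κ : S →ₗ[R] P) (Algebra.TensorProduct.map g₀ g₀
      (CoalgebraStruct.comul (R := R) t)) = TensorProduct.map (κ : S →ₗ[R] P) (κ : S →ₗ[R] P)
        (CoalgebraStruct.comul (R := R) (g₀ t))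
    have h1 : TensorProduct.map (κ : S →ₗ[R] P) (κ : S →ₗ[R] P) (CoalgebraStruct.comul (R := R) (g₀ t)) =
        CoalgebraStruct.comul (R := R) (κ (g₀ t)) := CoalgHomClass.map_comp_comul_apply κ _
    have h2 : TensorProduct.map (g : T →ₗ[R] P) (g : T →ₗ[R] P) (CoalgebraStruct.comul (R := R) t) =
        CoalgebraStruct.comul (R := R) (g t) := CoalgHomClass.map_comp_comul_apply g _
    rw [h1, hg₀, ← h2]
    generalize CoalgebraStruct.comul (R := R) t = z
    induction z with
    | zero => simp
    | add x y hx hy => simp only [map_add, hx, hy]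
    | tmul x y =>
      change κ (g₀ x) ⊗ₜ[R] κ (g₀ y) = g x ⊗ₜ g y
      rw [hg₀, hg₀]

/-- Factoring bialgebra maps through surjective ones. -/
theorem exists_desc {S : Type v} {T : Type w} {P : Type x} [CommRing S] [CommRing T] [CommRing P] [Bialgebra R S]
    [Bialgebra R T] [Bialgebra R P] (q : P →ₐc[R] S)
    (hq : Function.Surjective q) (g : P →ₐc[R] T) (h : ∀ t, q t = 0 → g t = 0) :
    ∃ g' : S →ₐc[R] T, ∀ t, g' (q t) = g t := by
  let e := Ideal.quotientKerAlgEquivOfSurjective (f := (q : P →ₐ[R] S)) hq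
  let g₀ : S →ₐ[R] T := (Ideal.Quotient.liftₐ (RingHom.ker (q : P →ₐ[R] S)) (g : P →ₐ[R] T) (fun a ha => h a ha)).comp
    e.symm.toAlgHom
  have hg₀ : ∀ t, g₀ (q t) = g t := fun t => by
    have h1 : e.symm (q t) = Ideal.Quotient.mk _ t := by
      rw [AlgEquiv.symm_apply_eq]
      rfl
    change (Ideal.Quotient.liftₐ (RingHom.ker (q : P →ₐ[R] S)) (g : P →ₐ[R] T) (fun a ha => h a ha)) (e.symm (q t)) = _
    rw [h1]
    rfl
  refine ⟨BialgHom.ofAlgHom g₀ ?_ ?_, hg₀⟩
  · ext t
    obtain ⟨t, rfl⟩ := hq t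
    change Coalgebra.counit (R := R) (g₀ (q t)) = Coalgebra.counit (R := R) (q t)
    rw [hg₀, CoalgHomClass.counit_comp_apply, CoalgHomClass.counit_comp_apply]
  · ext t
    obtain ⟨t, rfl⟩ := hq t
    change (Algebra.TensorProduct.map g₀ g₀ (CoalgebraStruct.comul (R := R) (q t))) =
        (CoalgebraStruct.comul (R := R) (g₀ (q t)))
    have h1 : TensorProduct.map (q : P →ₗ[R] S) (q : P →ₗ[R] S) (CoalgebraStruct.comul (R := R) t) =
        CoalgebraStruct.comul (R := R) (q t) := CoalgHomClass.map_comp_comul_apply q _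
    have h2 : TensorProduct.map (g : P →ₗ[R] T) (g : P →ₗ[R] T) (CoalgebraStruct.comul (R := R) t) =
        CoalgebraStruct.comul (R := R) (g t) := CoalgHomClass.map_comp_comul_apply g _
    rw [hg₀, ← h1, ← h2]
    generalize CoalgebraStruct.comul (R := R) t = z
    induction z with
    | zero => simp
    | add x y hx hy => simp only [map_add, hx, hy]
    | tmul x y =>
      change g₀ (q x) ⊗ₜ[R] g₀ (q y) = g x ⊗ₜ g y
      rw [hg₀, hg₀]

theorem pow_id_apply {A : Type v} [CommRing A] [Bialgebra R A] [Coalgebra.IsCocomm R A] (n : ℕ) (a : A) :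
    ((toConv (BialgHom.id R A)) ^ n).ofConv a = ((toConv (AlgHom.id R A)) ^ n).ofConv a := by
  have h := BialgHom.toAlgHom_convPow (toConv (BialgHom.id R A)) n
  exact congrArg (fun g : WithConv (A →ₐ[R] A) => g.ofConv a) h

theorem comp_pow {A : Type v} {B : Type w} {C : Type x} [CommRing A] [CommRing B] [CommRing C] [Algebra R A]
    [Algebra R B] [Bialgebra R C] (f : A →ₐ[R] B) (g : WithConv (C →ₐ[R] A)) (n : ℕ) :
    toConv (f.comp (g ^ n).ofConv) = (toConv (f.comp g.ofConv)) ^ n := by
  induction n with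
  | zero =>
    rw [pow_zero, pow_zero]
    apply WithConv.ext
    ext c
    exact f.commutes _
  | succ n ih =>
    rw [pow_succ, pow_succ, ← ih]
    exact congrArg toConv (AlgHom.comp_convMul_distrib f (g ^ n) g)

theorem pow_comp {A : Type v} {B : Type w} {C : Type x} [CommRing A] [CommRing B] [CommRing C] [Algebra R A]
    [Bialgebra R B] [Bialgebra R C] (f : B →ₐc[R] C) (g : WithConv (C →ₐ[R] A)) (n : ℕ) :
    toConv ((g ^ n).ofConv.comp (f : B →ₐ[R] C)) = (toConv (g.ofConv.comp (f : B →ₐ[R] C))) ^ n := by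
  induction n with
  | zero =>
    rw [pow_zero, pow_zero]
    apply WithConv.ext
    ext c
    change algebraMap R A (Coalgebra.counit (f c)) = algebraMap R A (Coalgebra.counit c)
    rw [CoalgHomClass.counit_comp_apply]
  | succ n ih =>
    rw [pow_succ, pow_succ, ← ih]
    exact congrArg toConv (AlgHom.convMul_comp_bialgHom_distrib (g ^ n) g f)

/-- powers of the identity commute with bialgebra maps -/
theorem pow_id_comm {A : Type v} {B : Type w} [CommRing A] [CommRing B] [Bialgebra R A] [Bialgebra R B]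
    [Coalgebra.IsCocomm R A] [Coalgebra.IsCocomm R B] (f : A →ₐc[R] B) (n : ℕ) (a : A) :
    f (((toConv (BialgHom.id R A)) ^ n).ofConv a) = ((toConv (BialgHom.id R B)) ^ n).ofConv (f a) := by
  rw [pow_id_apply, pow_id_apply]
  have h1 := comp_pow (f : A →ₐ[R] B) (toConv (AlgHom.id R A)) n
  have h2 := pow_comp f (toConv (AlgHom.id R B)) n
  have h3 : (f : A →ₐ[R] B).comp (toConv (AlgHom.id R A)).ofConv = (toConv (AlgHom.id R B)).ofConv.comp (f : A →ₐ[R] B) :=
    rfl
  rw [h3, ← h2] at h1
  exact congrArg (fun g : WithConv (A →ₐ[R] B) => g.ofConv a) h1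

end K411.Lift
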