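import Groth.Agent.SGA7.K411.SubHopf
import Groth.Agent.SGA7.K411.Lift
import Groth.Agent.Books.AffBridge2
import Mathlib.LinearAlgebra.FreeModule.PID
import Mathlib.RingTheory.HopfAlgebra.Basic
import Mathlib.RingTheory.PrincipalIdealDomain
import Mathlib.RingTheory.Flat.TorsionFree

/-!
# Saturation of a Hopf subalgebra of a finite free Hopf algebra over a principal ideal domain
-/

set_option autoImplicit false
set_option linter.unusedSectionVars false

universe u

open TensorProduct

namespace K411.Sat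

variable {R : Type u} [CommRing R] [IsDomain R] [IsPrincipalIdealRing R]

theorem exists_retraction {P : Type u} [AddCommGroup P] [Module R P] [Module.Finite R P] (N : Submodule R P)
    (h : ∀ (r : R) (x : P), r ≠ 0 → r • x ∈ N → x ∈ N) : ∃ ρ : P →ₗ[R] N, ∀ x : N, ρ x = x := by
  have htf : Module.IsTorsionFree R (P ⧸ N) := by
    rw [Module.isTorsionFree_iff_smul_eq_zero]
    intro r x hrx
    by_contra hcon
    rw [not_or] at hcon
    obtain ⟨x, rfl⟩ := N.mkQ_surjective x
    apply hcon.2
    rw [Submodule.mkQ_apply, Submodule.Quotient.mk_eq_zero]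
    refine h r x hcon.1 ?_
    rw [← Submodule.Quotient.mk_eq_zero, Submodule.Quotient.mk_smul]
    exact hrx
  obtain ⟨s, hs⟩ := Module.projective_lifting_property N.mkQ (LinearMap.id (R := R) (M := P ⧸ N)) N.mkQ_surjective
  have hm : ∀ x, (LinearMap.id (R := R) (M := P) - s ∘ₗ N.mkQ) x ∈ N := fun x => by
    rw [← Submodule.Quotient.mk_eq_zero]
    have := LinearMap.congr_fun hs (N.mkQ x)
    change N.mkQ (x - s (N.mkQ x)) = 0
    rw [map_sub, sub_eq_zero]
    exact this.symm
  refine ⟨(LinearMap.id - s ∘ₗ N.mkQ).codRestrict N hm, fun x => ?_⟩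
  · apply Subtype.ext
    change (x : P) - s (N.mkQ x) = x
    rw [Submodule.mkQ_apply, (Submodule.Quotient.mk_eq_zero N).2 x.2, map_zero, sub_zero]

/-- ranks of generically equal lattices -/
theorem finrank_eq {M N : Type u} [AddCommGroup M] [Module R M] [AddCommGroup N] [Module R N] [Module.Finite R N]
    [Module.Finite R M] [Module.IsTorsionFree R N]
    (j : M →ₗ[R] N) (hj : Function.Injective j) (h : ∀ x : N, ∃ r : R, r ≠ 0 ∧ ∃ a, j a = r • x) :
    Module.finrank R M = Module.finrank R N := by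
  refine le_antisymm (LinearMap.finrank_le_finrank_of_injective hj) ?_
  classical
  obtain ⟨s, hs⟩ := (inferInstance : Module.Finite R N).fg_top
  choose r hr0 hr using h
  let d : R := ∏ x ∈ s, r x
  have hd : d ≠ 0 := Finset.prod_ne_zero_iff.2 fun x _ => hr0 x
  have hall : ∀ x : N, d • x ∈ LinearMap.range j := by
    intro x
    have hx : x ∈ Submodule.span R (s : Set N) := by rw [hs]; trivial
    induction hx using Submodule.span_induction with
    | mem x hx =>
      obtain ⟨e, he⟩ : r x ∣ d := Finset.dvd_prod_of_mem r hx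
      obtain ⟨a, ha⟩ := hr x
      refine ⟨e • a, ?_⟩
      rw [map_smul, ha, smul_smul, he, mul_comm]
    | zero => rw [smul_zero]; exact Submodule.zero_mem _
    | add x y _ _ hx hy => rw [smul_add]; exact Submodule.add_mem _ hx hy
    | smul a x _ hx => rw [smul_comm]; exact Submodule.smul_mem _ _ hx
  let e := LinearEquiv.ofInjective j hj
  let g : N →ₗ[R] M := e.symm.toLinearMap ∘ₗ (LinearMap.codRestrict (LinearMap.range j) (d • LinearMap.id) hall)
  have hg : Function.Injective g := by
    intro x y hxy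
    have h1 := e.symm.injective hxy
    have h2 : d • x = d • y := congrArg Subtype.val h1
    exact smul_right_injective N hd h2
  exact LinearMap.finrank_le_finrank_of_injective hg

variable {P Q : Type u} [CommRing P] [HopfAlgebra R P] [CommRing Q] [HopfAlgebra R Q]

/-- The saturation of the range of a map of Hopf algebras. -/
def sat (f : Q →ₐc[R] P) : Subalgebra R P where
  carrier := {x | ∃ r : R, r ≠ 0 ∧ ∃ a, f a = r • x}
  mul_mem' := by
    rintro x y ⟨r, hr, a, ha⟩ ⟨s, hs, b, hb⟩
    refine ⟨r * s, mul_ne_zero hr hs, a * b, ?_⟩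
    rw [map_mul, ha, hb, smul_mul_smul_comm]
  add_mem' := by
    rintro x y ⟨r, hr, a, ha⟩ ⟨s, hs, b, hb⟩
    refine ⟨r * s, mul_ne_zero hr hs, s • a + r • b, ?_⟩
    rw [map_add, map_smul, map_smul, ha, hb, smul_smul, smul_smul, smul_add, mul_comm s r]
  algebraMap_mem' r := ⟨1, one_ne_zero, algebraMap R Q r, by rw [one_smul]; exact AlgHomClass.commutes f r⟩

theorem mem_sat (f : Q →ₐc[R] P) (x : P) : x ∈ sat f ↔ ∃ r : R, r ≠ 0 ∧ ∃ a, f a = r • x := Iff.rfl

theorem sat_sat (f : Q →ₐc[R] P) (r : R) (x : P) (hr : r ≠ 0) (h : r • x ∈ sat f) : x ∈ sat f := by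
  obtain ⟨s, hs, a, ha⟩ := h
  exact ⟨s * r, mul_ne_zero hs hr, a, by rw [ha, smul_smul]⟩

variable [Module.Finite R P] [Module.Free R P]

theorem free_sat (f : Q →ₐc[R] P) : Module.Free R (sat f) := by
  have : Module.Finite R (sat f) := inferInstanceAs (Module.Finite R (sat f).toSubmodule)
  have : Module.IsTorsionFree R (sat f) := inferInstanceAs (Module.IsTorsionFree R (sat f).toSubmodule)
  infer_instance

theorem isSubHopf_sat (f : Q →ₐc[R] P) : SubHopf.IsSubHopf (k := R) (sat f) where
  comul_mem := by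
    rintro x ⟨r, hr, a, ha⟩
    obtain ⟨ρ, hρ⟩ := exists_retraction (sat f).toSubmodule (fun s y hs hy => sat_sat f s y hs hy)
    have hfa : ∀ y : Q, f y ∈ sat f := fun y => ⟨1, one_ne_zero, y, (one_smul _ _).symm⟩
    have key : ∀ w : Q ⊗[R] Q, TensorProduct.map (sat f).val.toLinearMap (sat f).val.toLinearMap
        (TensorProduct.map ρ ρ (TensorProduct.map (f : Q →ₐ[R] P).toLinearMap (f : Q →ₐ[R] P).toLinearMap w)) =
        TensorProduct.map (f : Q →ₐ[R] P).toLinearMap (f : Q →ₐ[R] P).toLinearMap w := by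
      intro w
      induction w using TensorProduct.induction_on with
      | zero => simp
      | add x y hx hy => simp only [map_add, hx, hy]
      | tmul x y =>
        simp only [TensorProduct.map_tmul]
        have h1 := hρ ⟨f x, hfa x⟩
        have h2 := hρ ⟨f y, hfa y⟩
        change ((ρ (f x) : sat f) : P) ⊗ₜ[R] ((ρ (f y) : sat f) : P) = f x ⊗ₜ f y
        rw [show ρ (f x) = ⟨f x, hfa x⟩ from h1, show ρ (f y) = ⟨f y, hfa y⟩ from h2]
    refine ⟨TensorProduct.map ρ ρ (CoalgebraStruct.comul (R := R) x), ?_⟩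
    apply smul_right_injective (P ⊗[R] P) hr
    change r • _ = r • _
    rw [← map_smul, ← map_smul, ← map_smul, ← ha,
      show CoalgebraStruct.comul (R := R) (f a) = TensorProduct.map (f : Q →ₐ[R] P).toLinearMap
        (f : Q →ₐ[R] P).toLinearMap (CoalgebraStruct.comul (R := R) a) from
        (CoalgHomClass.map_comp_comul_apply f a).symm]
    exact key _
  antipode_mem := by
    rintro x ⟨r, hr, a, ha⟩
    refine ⟨r, hr, HopfAlgebraStruct.antipode R a, ?_⟩
    rw [← map_smul, ← ha]
    exact (Groth.Agent.Books.AffBridge2.antipode_bialgHom_apply f a).symm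

/-- Saturation of a finite Hopf algebra inside a finite free one. -/
theorem exists_sat [Coalgebra.IsCocomm R P] (f : Q →ₐc[R] P) (hf : Function.Injective f) [Module.Finite R Q] :
    ∃ (S : Type u) (_ : CommRing S) (_ : HopfAlgebra R S) (_ : Coalgebra.IsCocomm R S) (_ : Module.Finite R S)
      (_ : Module.Free R S) (ι : Q →ₐc[R] S) (κ : S →ₐc[R] P),
      Function.Injective ι ∧ Function.Injective κ ∧ (∀ x, κ (ι x) = f x) ∧
      (∀ (r : R) (x : P), r ≠ 0 → (∃ a, κ a = r • x) → ∃ a, κ a = x) ∧
      (∀ x : S, ∃ r : R, r ≠ 0 ∧ ∃ a, ι a = r • x) ∧ Module.finrank R S = Module.finrank R Q := by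
  have hfr := free_sat f
  have hfin : Module.Finite R (sat f) := inferInstanceAs (Module.Finite R (sat f).toSubmodule)
  have hS := isSubHopf_sat f
  letI := hS.hopf
  have hκ : Function.Injective hS.val := hS.val_injective
  have hfa : ∀ y : Q, f y ∈ sat f := fun y => ⟨1, one_ne_zero, y, (one_smul _ _).symm⟩
  obtain ⟨ι, hι⟩ := Lift.exists_lift hS.val hκ f (fun y => ⟨⟨f y, hfa y⟩, rfl⟩)
  have hιi : Function.Injective ι := by
    intro x y hxy
    apply hf
    rw [← hι, ← hι, hxy]
  have hgen : ∀ x : sat f, ∃ r : R, r ≠ 0 ∧ ∃ a, ι a = r • x := by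
    rintro ⟨x, r, hr, a, ha⟩
    refine ⟨r, hr, a, hκ ?_⟩
    rw [hι, map_smul]
    exact ha
  refine ⟨sat f, inferInstance, inferInstance, Lift.isCocomm_of_injective hS.val hκ, inferInstance, inferInstance,
    ι, hS.val, hιi, hκ, hι, ?_, hgen, ?_⟩
  · rintro r x hr ⟨a, ha⟩
    have h1 : r • x ∈ sat f := by
      rw [← ha]
      exact a.2
    exact ⟨⟨x, sat_sat f r x hr h1⟩, rfl⟩
  · exact (finrank_eq (ι : Q →ₐ[R] sat f).toLinearMap hιi hgen).symm

end K411.Sat
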