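import Groth.Agent.SGA7.K411.FieldSeq
import Groth.Agent.SGA7.K411.Sat
import Mathlib.RingTheory.DiscreteValuationRing.Basic
import Mathlib.RingTheory.LocalRing.Module

/-!
# Surjectivity of maps of quotients of finite flat group schemes over a discrete valuation ring
-/

set_option autoImplicit false
set_option linter.unusedSectionVars false

universe u

open TensorProduct

namespace K411.SurjR

/-- base change of a bialgebra map -/
noncomputable def bc {R : Type u} [CommRing R] (k : Type u) [CommRing k] [Algebra R k] {A B : Type u} [CommRing A]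
    [HopfAlgebra R A] [CommRing B] [HopfAlgebra R B] (f : A →ₐc[R] B) : k ⊗[R] A →ₐc[k] k ⊗[R] B :=
  Bialgebra.TensorProduct.map (BialgHom.id k k) f

section

variable {R : Type u} [CommRing R] (k : Type u) [CommRing k] [Algebra R k] {A B C : Type u} [CommRing A]
    [HopfAlgebra R A] [CommRing B] [HopfAlgebra R B] [CommRing C] [HopfAlgebra R C]

theorem bc_tmul (f : A →ₐc[R] B) (c : k) (a : A) : bc k f (c ⊗ₜ a) = c ⊗ₜ f a := rfl

theorem bc_surjective (f : A →ₐc[R] B) (hf : Function.Surjective f) : Function.Surjective (bc k f) := by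
  intro y
  induction y with
  | zero => exact ⟨0, map_zero _⟩
  | add x y hx hy =>
    obtain ⟨x, rfl⟩ := hx
    obtain ⟨y, rfl⟩ := hy
    exact ⟨x + y, map_add _ _ _⟩
  | tmul c y =>
    obtain ⟨x, rfl⟩ := hf y
    exact ⟨c ⊗ₜ x, rfl⟩

theorem bc_bc (f : A →ₐc[R] B) (g : B →ₐc[R] C) (h : A →ₐc[R] C) (e : ∀ x, g (f x) = h x) (x : k ⊗[R] A) :
    bc k g (bc k f x) = bc k h x := by
  induction x with
  | zero => simp
  | add x y hx hy => rw [map_add, map_add, map_add, hx, hy]
  | tmul c y => rw [bc_tmul, bc_tmul, bc_tmul, e]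

theorem bc_triv (f : A →ₐc[R] B) (e : ∀ x, f x = algebraMap R B (Coalgebra.counit x)) (x : k ⊗[R] A) :
    bc k f x = algebraMap k (k ⊗[R] B) (Coalgebra.counit x) := by
  induction x with
  | zero => rw [map_zero, map_zero, map_zero]
  | add x y hx hy => rw [map_add, map_add, map_add, hx, hy]
  | tmul c y =>
    rw [bc_tmul, e, Algebra.TensorProduct.algebraMap_apply, Algebra.algebraMap_eq_smul_one, TensorProduct.tmul_smul]
    change _ = (Coalgebra.counit (R := k) (c ⊗ₜ[R] y)) ⊗ₜ[R] (1 : B)
    rw [TensorProduct.counit_tmul, TensorProduct.smul_tmul']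
    congr 1

theorem bc_injective [IsDomain R] [IsPrincipalIdealRing R] [Module.Finite R B]
    (f : A →ₐc[R] B) (hf : Function.Injective f) (hs : ∀ (r : R) (x : B), r ≠ 0 → (∃ a, f a = r • x) → ∃ a, f a = x) :
    Function.Injective (bc k f) := by
  obtain ⟨ρ, hρ⟩ := Sat.exists_retraction (LinearMap.range (f : A →ₐ[R] B).toLinearMap)
    (fun r x hr h => hs r x hr h)
  let e := LinearEquiv.ofInjective (f : A →ₐ[R] B).toLinearMap hf
  let g : B →ₗ[R] A := e.symm.toLinearMap ∘ₗ ρ
  have hg : ∀ a, g (f a) = a := by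
    intro a
    change e.symm (ρ (f a)) = a
    rw [LinearEquiv.symm_apply_eq]
    exact hρ ⟨f a, a, rfl⟩
  intro x y hxy
  have hall : ∀ z : k ⊗[R] A, g.baseChange k (bc k f z) = z := by
    intro z
    induction z with
    | zero => rw [map_zero, map_zero]
    | add x y hx hy => rw [map_add, map_add, hx, hy]
    | tmul c y => rw [bc_tmul, LinearMap.baseChange_tmul, hg]
  rw [← hall x, hxy, hall]

end

variable {R : Type u} [CommRing R] [IsDomain R] [IsDiscreteValuationRing R]
  {P P' Q Q' N : Type u} [CommRing P] [HopfAlgebra R P] [Module.Finite R P] [Module.Free R P]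
  [CommRing P'] [HopfAlgebra R P'] [Module.Finite R P'] [Module.Free R P']
  [CommRing Q] [HopfAlgebra R Q] [Module.Free R Q]
  [CommRing Q'] [HopfAlgebra R Q'] [Module.Finite R Q'] [Module.Free R Q']
  [CommRing N] [HopfAlgebra R N] [Module.Free R N]

theorem surjective (f : Q →ₐc[R] P) (hf : Function.Injective f)
    (hfs : ∀ (r : R) (x : P), r ≠ 0 → (∃ a, f a = r • x) → ∃ a, f a = x)
    (f' : Q' →ₐc[R] P') (hf' : Function.Injective f')
    (hfs' : ∀ (r : R) (x : P'), r ≠ 0 → (∃ a, f' a = r • x) → ∃ a, f' a = x)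
    (r : P →ₐc[R] P') (hr : Function.Surjective r) (s : Q →ₐc[R] Q') (hs : ∀ x, f' (s x) = r (f x))
    (π : P' →ₐc[R] N) (hπ : Function.Surjective π) (ht : ∀ x, π (f' x) = algebraMap R N (Coalgebra.counit x))
    (hd : Module.finrank R P = Module.finrank R Q * Module.finrank R N)
    (hd' : Module.finrank R P' = Module.finrank R Q' * Module.finrank R N) : Function.Surjective s := by
  let k := IsLocalRing.ResidueField R
  have h1 : Function.Surjective (bc k s) := by
    apply FieldSeq.surjective (bc k f) (bc_injective k f hf hfs) (bc k f') (bc_injective k f' hf' hfs')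
      (bc k r) (bc_surjective k r hr) (bc k s) _ (bc k π) (bc_surjective k π hπ)
    · intro x
      rw [bc_bc k f' π (π.comp f') (fun _ => rfl)]
      exact bc_triv k (π.comp f') ht x
    · rw [Module.finrank_baseChange, Module.finrank_baseChange, Module.finrank_baseChange, hd]
    · rw [Module.finrank_baseChange, Module.finrank_baseChange, Module.finrank_baseChange, hd']
    · intro x
      rw [bc_bc k s f' (f'.comp s) (fun _ => rfl), bc_bc k f r (f'.comp s) (fun x => (hs x).symm)]
  have h2 : LinearMap.range (s : Q →ₐ[R] Q').toLinearMap = ⊤ := by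
    rw [← IsLocalRing.map_tensorProduct_mk_eq_top, eq_top_iff]
    intro z _
    obtain ⟨w, rfl⟩ := h1 z
    obtain ⟨q, rfl⟩ := TensorProduct.mk_surjective R Q k Ideal.Quotient.mk_surjective w
    exact ⟨s q, ⟨q, rfl⟩, rfl⟩
  exact LinearMap.range_eq_top.1 h2

end K411.SurjR
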