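import Groth.Agent.SGA7.K411.BTbc
import Groth.Agent.SGA7.K564.Tate.BC
import Groth.Agent.Sga7.H516.GoodRed
import Groth.Agent.Sga7.H755.FN.NeronDesc
import Groth.Agent.Sga7.H740.Comm
import Groth.Agent.S4056
import Groth.Agent.S4057
import Groth.Agent.S0352
import Groth.Agent.Models.WeilChart
import Groth.Agent.Sga7.H757.Glue

/-!
# Tate's criterion in the semistable case: from complete discrete valuation rings with algebraically closed residue
field to arbitrary ones

* `isNeron_of_isProper`: a proper smooth group scheme is a Néron model;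
* `isProper_of_good`: a smooth separated group scheme of finite type without additive groups in its fibres, whose
  generic fibre is an abelian variety with good reduction, is proper;
* `hasGoodReduction_of_isProper`;
* `VIA`: the semistable half of Tate's criterion over complete discrete valuation rings of mixed characteristic with
  algebraically closed residue field;
* `via_gen`: the same for every discrete valuation ring of mixed characteristic.
-/

set_option autoImplicit false
set_option linter.unusedSectionVars false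

universe u

open CategoryTheory CategoryTheory.Limits MonoidalCategory CartesianMonoidalCategory MonObj AlgebraicGeometry

namespace K411.Via

open Groth.Agent.Sga7.H516.Square (sp)

/-- A proper smooth group scheme over a Dedekind domain is a Néron model of its generic fibre. -/
theorem isNeron_of_isProper (R K : Type u) [CommRing R] [IsDedekindDomain R] [Field K] [Algebra R K]
    [IsFractionRing R K] (N : Over (Spec (CommRingCat.of R))) [GrpObj N] [IsProper N.hom] [Smooth N.hom] :
    SGA7.IsNeron R K N := by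
  refine Groth.Agent.Sga7.H755.FN.NeronDesc.isNeron_of N fun Y y _ f hf => ?_
  have h0 : GrpObj (Over.mk N.hom) := inferInstanceAs (GrpObj N)
  obtain ⟨u, ⟨hu1, hu2⟩, -⟩ := Groth.Agent.Models.WeilChart.existsUnique_extension N.hom y K f
    (hf.trans pullback.condition.symm)
  exact ⟨u, hu1, hu2⟩

section Good

variable (R K : Type u) [CommRing R] [IsDomain R] [IsDiscreteValuationRing R] [Field K] [Algebra R K]
  [IsFractionRing R K]

/-- A proper model is a good model. -/
theorem hasGoodReduction_of_isProper {A : Over (Spec (CommRingCat.of K))} [GrpObj A] [GeometricallyIntegral A.hom]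
    (N : Over (Spec (CommRingCat.of R))) [GrpObj N] [IsProper N.hom] [Smooth N.hom]
    (e : Red.bc (sp R K) N ≅ A) (he : IsMonHom e.hom) : SGA7.HasGoodReduction R K A := by
  have hei : IsIso e.hom.left := inferInstanceAs (IsIso ((Over.forget _).map e.hom))
  have h6 : GeometricallyIntegral (pullback.snd N.hom (sp R K)) := by
    have : pullback.snd N.hom (sp R K) = e.hom.left ≫ A.hom := (Over.w e.hom).symm
    rw [this]
    exact (MorphismProperty.cancel_left_of_respectsIso @GeometricallyIntegral _ _).2 inferInstance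
  refine ⟨N, inferInstance, e, he, inferInstance, inferInstance, fun k' _ t => ?_⟩
  have hgeom : GeometricallyConnected N.hom := Groth.Agent.Sga7.H516.GoodRed.geometricallyConnected R K N.hom
  exact GeometricallyConnected.geometrically_connectedSpace (f := N.hom) t _ _
    (IsPullback.of_hasPullback N.hom t)

/-- The points of the spectrum of a discrete valuation ring. -/
theorem exists_point (x : Spec (CommRingCat.of R)) :
    x ∈ Set.range (sp R K) ∨ x ∈ Set.range (Spec.map (CommRingCat.ofHom (IsLocalRing.residue R))) := by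
  by_cases h : x.asIdeal = ⊥
  · left
    refine ⟨(⊥ : PrimeSpectrum K), ?_⟩
    apply PrimeSpectrum.ext
    change Ideal.comap (algebraMap R K) ⊥ = x.asIdeal
    rw [h, ← RingHom.ker_eq_comap_bot]
    exact (RingHom.injective_iff_ker_eq_bot _).1 (IsFractionRing.injective R K)
  · right
    have hx : x.asIdeal.IsMaximal := x.isPrime.isMaximal h
    refine ⟨(⊥ : PrimeSpectrum (IsLocalRing.ResidueField R)), ?_⟩
    apply PrimeSpectrum.ext
    change Ideal.comap (IsLocalRing.residue R) ⊥ = x.asIdeal
    rw [← RingHom.ker_eq_comap_bot, IsLocalRing.ker_residue]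
    exact (IsLocalRing.eq_maximalIdeal hx).symm

theorem surj_of_map {S T : Scheme.{u}} (t : T ⟶ S) {N B : Over S} (u : N ⟶ B) (x : B.left)
    (hx : B.hom x ∈ Set.range t) (h : Function.Surjective ((Over.pullback t).map u).left) :
    x ∈ Set.range u.left := by
  have h1 : x ∈ Set.range (pullback.fst B.hom t) := by
    rw [Scheme.Pullback.range_fst]
    exact hx
  obtain ⟨y, rfl⟩ := h1
  obtain ⟨z, rfl⟩ := h y
  refine ⟨pullback.fst N.hom t z, ?_⟩
  have h2 : pullback.fst N.hom t ≫ u.left = ((Over.pullback t).map u).left ≫ pullback.fst B.hom t :=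
    (pullback.lift_fst _ _ _).symm
  rw [← Scheme.Hom.comp_apply, h2, Scheme.Hom.comp_apply]

/-- An open immersion of group schemes over a discrete valuation ring which is an isomorphism on the generic fibres
and whose target has connected special fibre is an isomorphism. -/
theorem isIso_of_isOpenImmersion {N B : Over (Spec (CommRingCat.of R))} [GrpObj N] [GrpObj B] (u : N ⟶ B)
    [IsMonHom u] [IsOpenImmersion u.left] [IsIso ((SGA7.genFib R K).map u)]
    (hB : ConnectedSpace ↑(pullback B.hom (Spec.map (CommRingCat.ofHom (IsLocalRing.residue R))))) :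
    IsIso u.left := by
  apply isIso_of_isOpenImmersion_of_opensRange_eq_top
  apply TopologicalSpace.Opens.ext
  apply Set.eq_univ_of_forall
  intro x
  rcases exists_point R K (B.hom x) with h | h
  · refine surj_of_map (sp R K) u x h ?_
    have h1 : IsIso ((SGA7.genFib R K).map u).left :=
      inferInstanceAs (IsIso ((Over.forget _).map ((SGA7.genFib R K).map u)))
    exact ((SGA7.genFib R K).map u).left.surjective
  · let t := Spec.map (CommRingCat.ofHom (IsLocalRing.residue R))
    refine surj_of_map t u x h ?_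
    let v : Red.bc t N ⟶ Red.bc t B := (Over.pullback t).map u
    have hv : IsMonHom v := inferInstanceAs (IsMonHom ((Over.pullback t).map u))
    have ho : IsOpenImmersion v.left :=
      MorphismProperty.of_isPullback (Groth.Agent.Sga7.H737.FlatMonoBC.isPullback_map t u).flip inferInstance
    have h1 : IsOpen (Set.range v.left) := v.left.isOpenEmbedding.isOpen_range
    have h2 : IsClosed (Set.range v.left) :=
      Groth.Agent.S0352.result (IsLocalRing.ResidueField R) (Red.bc t N) (Red.bc t B) v h1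
    have hc : ConnectedSpace ↥(Red.bc t B).left := hB
    have hne : (Set.range v.left).Nonempty := by
      refine ⟨v.left (η[Red.bc t N].left (IsLocalRing.closedPoint (IsLocalRing.ResidueField R))), ⟨_, rfl⟩⟩
    have h3 : Set.range v.left = Set.univ := IsClopen.eq_univ ⟨h2, h1⟩ hne
    exact Set.range_eq_univ.1 h3

/-- A semistable model of an abelian variety with good reduction is proper. -/
theorem isProper_of_good (N : Over (Spec (CommRingCat.of R))) [GrpObj N] [Smooth N.hom] [IsSeparated N.hom]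
    [QuasiCompact N.hom] (hN : SGA7.FibresUnipotentRankZero N)
    {A : Over (Spec (CommRingCat.of K))} [GrpObj A] [IsProper A.hom] [GeometricallyIntegral A.hom]
    (e : Red.bc (sp R K) N ≅ A) (he : IsMonHom e.hom) (hA : SGA7.HasGoodReduction R K A) : IsProper N.hom := by
  obtain ⟨B, _, eB, heB, hp, hs, hc⟩ := hA
  have hner := isNeron_of_isProper R K B
  have heB' : IsMonHom eB.inv := inferInstance
  obtain ⟨u, hu, hue⟩ := Groth.Agent.Sga7.H757.Glue.exists_hom_of_isNeron R K N B hner (e.hom ≫ eB.inv)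
  have hiso : IsIso ((SGA7.genFib R K).map u) := by
    rw [hue]
    infer_instance
  have hei : IsIso eB.hom.left := inferInstanceAs (IsIso ((Over.forget _).map eB.hom))
  have h6 : GeometricallyIntegral ((SGA7.genFib R K).obj B).hom := by
    rw [← Over.w eB.hom]
    exact (MorphismProperty.cancel_left_of_respectsIso @GeometricallyIntegral _ _).2 inferInstance
  have h7 : IsProper ((SGA7.genFib R K).obj B).hom := by
    rw [← Over.w eB.hom]
    infer_instance
  have hop : IsOpenImmersion u.left := Groth.Agent.S4056.result R K B hner N hN u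
  have h8 : IsIso u.left := isIso_of_isOpenImmersion R K u (hc _ _)
  rw [← Over.w u]
  infer_instance

end Good

/-- **The semistable half of Tate's criterion** over complete discrete valuation rings of mixed characteristic with
algebraically closed residue field. -/
def VIA : Prop :=
  ∀ (R K : Type u) [CommRing R] [IsDomain R] [IsDiscreteValuationRing R] [CharZero R]
    [IsAdicComplete (IsLocalRing.maximalIdeal R) R] [IsAlgClosed (IsLocalRing.ResidueField R)]
    [Field K] [Algebra R K] [IsFractionRing R K] (p : ℕ) [Fact p.Prime] (_ : (p : R) ∈ IsLocalRing.maximalIdeal R)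
    (N : Over (Spec (CommRingCat.of R))) [GrpObj N] [IsCommMonObj N] [Smooth N.hom] [IsSeparated N.hom]
    [QuasiCompact N.hom] (_ : SGA7.FibresUnipotentRankZero N)
    (A : Over (Spec (CommRingCat.of K))) [GrpObj A] [IsCommMonObj A] [IsProper A.hom] [GeometricallyIntegral A.hom]
    (e₀ : Red.bc (Spec.map (CommRingCat.ofHom (algebraMap R K))) N ≅ A) (_ : IsMonHom e₀.hom)
    (P : ℕ → Over (Spec (CommRingCat.of K))) [∀ ν, GrpObj (P ν)] (i : ∀ ν, P ν ⟶ A) (t : ∀ ν, P (ν + 1) ⟶ P ν)
    (_ : BTGrp.IsTatePro A p P i t)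
    (h : ℕ) (G : BTGrp.ProBT p (Spec (CommRingCat.of R)) h)
    (e : ∀ ν, Red.bc (Spec.map (CommRingCat.ofHom (algebraMap R K))) (G.G ν) ≅ P ν)
    (_ : ∀ ν, IsMonHom (e ν).hom)
    (_ : ∀ ν, (SGA7.genFib R K).map (G.proj ν) ≫ (e ν).hom = (e (ν + 1)).hom ≫ t ν)
    (_ : ∀ ν, (SGA7.genFib R K).map (G.incl ν) ≫ (e (ν + 1)).hom ≫ i (ν + 1) = (e ν).hom ≫ i ν),
    SGA7.HasGoodReduction R K A

/-- A commutative square, as a regular definition. -/
def CS {C : Type*} [Category C] {A B D E : C} (f : A ⟶ B) (g : B ⟶ D) (f' : A ⟶ E) (g' : E ⟶ D) : Prop :=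
  f ≫ g = f' ≫ g'

theorem CS.eq {C : Type*} [Category C] {A B D E : C} {f : A ⟶ B} {g : B ⟶ D} {f' : A ⟶ E} {g' : E ⟶ D}
    (h : CS f g f' g') : f ≫ g = f' ≫ g' := h

theorem CS.mk {C : Type*} [Category C] {A B D E : C} {f : A ⟶ B} {g : B ⟶ D} {f' : A ⟶ E} {g' : E ⟶ D}
    (h : f ≫ g = f' ≫ g') : CS f g f' g' := h

/-- A commutative square with a long side, as a regular definition. -/
def CS3 {C : Type*} [Category C] {A B D E F : C} (f : A ⟶ B) (g : B ⟶ D) (h : D ⟶ E) (f' : A ⟶ F) (g' : F ⟶ E) :
    Prop := f ≫ g ≫ h = f' ≫ g'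

section Abs

variable {C₀ C₁ C₂ C₃ : Type*} [Category C₀] [Category C₁] [Category C₂] [Category C₃]
  {F₁ : C₀ ⥤ C₁} {F₂ : C₁ ⥤ C₃} {G₁ : C₀ ⥤ C₂} {G₂ : C₂ ⥤ C₃} (θ : F₁ ⋙ F₂ ≅ G₁ ⋙ G₂)

/-- transport of an isomorphism through a natural isomorphism. -/
def tr {X : C₀} {Y : C₂} (e : G₁.obj X ≅ Y) : F₂.obj (F₁.obj X) ≅ G₂.obj Y := θ.app X ≪≫ G₂.mapIso e

theorem tr_comm {X X' : C₀} {Y Y' : C₂} (e : G₁.obj X ≅ Y) (e' : G₁.obj X' ≅ Y') (f : X ⟶ X') (g : Y ⟶ Y')
    (h : CS (G₁.map f) e'.hom e.hom g) : CS (F₂.map (F₁.map f)) (tr θ e').hom (tr θ e).hom (G₂.map g) := by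
  have h1 := θ.hom.naturality f
  have h2 := congrArg G₂.map h.eq
  rw [Functor.map_comp, Functor.map_comp] at h2
  rw [Functor.comp_map, Functor.comp_map] at h1
  change F₂.map (F₁.map f) ≫ θ.hom.app X' ≫ G₂.map e'.hom = (θ.hom.app X ≫ G₂.map e.hom) ≫ G₂.map g
  rw [← Category.assoc, h1, Category.assoc, h2, Category.assoc]

theorem tr_comm3 {X X' : C₀} {Y Y' A : C₂} (e : G₁.obj X ≅ Y) (e' : G₁.obj X' ≅ Y') (f : X ⟶ X') (j : Y ⟶ A)
    (j' : Y' ⟶ A) (h : CS3 (G₁.map f) e'.hom j' e.hom j) :
    CS3 (F₂.map (F₁.map f)) (tr θ e').hom (G₂.map j') (tr θ e).hom (G₂.map j) := by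
  have h1 := θ.hom.naturality f
  have h2 : G₂.map (G₁.map f ≫ e'.hom ≫ j') = G₂.map (e.hom ≫ j) := congrArg G₂.map h
  rw [Functor.map_comp, Functor.map_comp, Functor.map_comp] at h2
  rw [Functor.comp_map, Functor.comp_map] at h1
  change F₂.map (F₁.map f) ≫ (θ.hom.app X' ≫ G₂.map e'.hom) ≫ G₂.map j' = (θ.hom.app X ≫ G₂.map e.hom) ≫ G₂.map j
  rw [Category.assoc, ← Category.assoc, h1, Category.assoc, h2, Category.assoc]

end Abs

section Gen

variable {R K R' K' : Type u} [CommRing R] [CommRing R'] [Algebra R R'] [Field K] [Algebra R K]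
  [Field K'] [Algebra R' K'] [Algebra K K'] [Algebra R K'] [IsScalarTower R K K'] [IsScalarTower R R' K']

theorem sp_sq : sp R' K' ≫ sp R R' = sp K K' ≫ sp R K := by
  rw [← Spec.map_comp, ← Spec.map_comp, ← CommRingCat.ofHom_comp, ← CommRingCat.ofHom_comp,
    ← IsScalarTower.algebraMap_eq, ← IsScalarTower.algebraMap_eq]

variable (R K R' K') in
/-- the natural isomorphism. -/
noncomputable def θN : Over.pullback (sp R R') ⋙ SGA7.genFib R' K' ≅ SGA7.genFib R K ⋙ Over.pullback (sp K K') :=
  BT.sqNat (sp_sq (R := R) (K := K) (R' := R') (K' := K'))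

/-- base change of an isomorphism on generic fibres. -/
noncomputable def bcE {X : Over (Spec (CommRingCat.of R))} {Y : Over (Spec (CommRingCat.of K))}
    (e : Red.bc (Spec.map (CommRingCat.ofHom (algebraMap R K))) X ≅ Y) :
    Red.bc (Spec.map (CommRingCat.ofHom (algebraMap R' K'))) (Red.bc (sp R R') X) ≅ Red.bc (sp K K') Y :=
  tr (θN R K R' K') e

theorem isMonHom_bcE {X : Over (Spec (CommRingCat.of R))} {Y : Over (Spec (CommRingCat.of K))} [GrpObj X] [GrpObj Y]
    (e : Red.bc (Spec.map (CommRingCat.ofHom (algebraMap R K))) X ≅ Y) (he : IsMonHom e.hom) :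
    IsMonHom (bcE (R' := R') (K' := K') e).hom := by
  have h1 := BT.isMonHom_sqI (sp_sq (R := R) (K := K) (R' := R') (K' := K')) X
  let a : Red.bc (sp K K') (Red.bc (sp R K) X) ⟶ Red.bc (sp K K') Y := (Over.pullback (sp K K')).map e.hom
  have h2 : IsMonHom a := inferInstanceAs (IsMonHom ((Over.pullback (sp K K')).map e.hom))
  let b := (BT.sqI (sp_sq (R := R) (K := K) (R' := R') (K' := K')) X).hom
  have h3 : IsMonHom (b ≫ a) := inferInstance
  exact h3

theorem bcE_comm {X X' : Over (Spec (CommRingCat.of R))} {Y Y' : Over (Spec (CommRingCat.of K))}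
    (e : Red.bc (Spec.map (CommRingCat.ofHom (algebraMap R K))) X ≅ Y)
    (e' : Red.bc (Spec.map (CommRingCat.ofHom (algebraMap R K))) X' ≅ Y') (f : X ⟶ X') (g : Y ⟶ Y')
    (h : (SGA7.genFib R K).map f ≫ e'.hom = e.hom ≫ g) :
    CS ((SGA7.genFib R' K').map ((Over.pullback (sp R R')).map f)) (bcE (R' := R') (K' := K') e').hom
      (bcE (R' := R') (K' := K') e).hom ((Over.pullback (sp K K')).map g) := 
  tr_comm (θN R K R' K') e e' f g (CS.mk h)

theorem bcE_comm3 {X X' : Over (Spec (CommRingCat.of R))} {Y Y' A : Over (Spec (CommRingCat.of K))}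
    (e : Red.bc (Spec.map (CommRingCat.ofHom (algebraMap R K))) X ≅ Y)
    (e' : Red.bc (Spec.map (CommRingCat.ofHom (algebraMap R K))) X' ≅ Y') (f : X ⟶ X') (j : Y ⟶ A) (j' : Y' ⟶ A)
    (h : (SGA7.genFib R K).map f ≫ e'.hom ≫ j' = e.hom ≫ j) :
    CS3 ((SGA7.genFib R' K').map ((Over.pullback (sp R R')).map f)) (bcE (R' := R') (K' := K') e').hom
      ((Over.pullback (sp K K')).map j') (bcE (R' := R') (K' := K') e).hom ((Over.pullback (sp K K')).map j) :=
  tr_comm3 (θN R K R' K') e e' f j j' h

end Gen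

/-- `VIA` with regular definitions for the commutative squares. -/
theorem via_cs (hV : VIA.{u}) (R K : Type u) [CommRing R] [IsDomain R] [IsDiscreteValuationRing R] [CharZero R]
    [IsAdicComplete (IsLocalRing.maximalIdeal R) R] [IsAlgClosed (IsLocalRing.ResidueField R)]
    [Field K] [Algebra R K] [IsFractionRing R K] (p : ℕ) [Fact p.Prime] (hp : (p : R) ∈ IsLocalRing.maximalIdeal R)
    (N : Over (Spec (CommRingCat.of R))) [GrpObj N] [IsCommMonObj N] [Smooth N.hom] [IsSeparated N.hom]
    [QuasiCompact N.hom] (hN : SGA7.FibresUnipotentRankZero N)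
    (A : Over (Spec (CommRingCat.of K))) [GrpObj A] [IsCommMonObj A] [IsProper A.hom] [GeometricallyIntegral A.hom]
    (e₀ : Red.bc (Spec.map (CommRingCat.ofHom (algebraMap R K))) N ≅ A) (he₀ : IsMonHom e₀.hom)
    (P : ℕ → Over (Spec (CommRingCat.of K))) [∀ ν, GrpObj (P ν)] (i : ∀ ν, P ν ⟶ A) (t : ∀ ν, P (ν + 1) ⟶ P ν)
    (hP : BTGrp.IsTatePro A p P i t)
    (h : ℕ) (G : BTGrp.ProBT p (Spec (CommRingCat.of R)) h)
    (e : ∀ ν, Red.bc (Spec.map (CommRingCat.ofHom (algebraMap R K))) (G.G ν) ≅ P ν)
    (he : ∀ ν, IsMonHom (e ν).hom)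
    (het : ∀ ν, CS ((SGA7.genFib R K).map (G.proj ν)) (e ν).hom (e (ν + 1)).hom (t ν))
    (hei : ∀ ν, CS3 ((SGA7.genFib R K).map (G.incl ν)) (e (ν + 1)).hom (i (ν + 1)) (e ν).hom (i ν)) :
    SGA7.HasGoodReduction R K A :=
  hV R K p hp N hN A e₀ he₀ P i t hP h G e he (fun ν => het ν) (fun ν => hei ν)

/-- Properness descends along a faithfully flat ring map. -/
theorem isProper_of_bc (R R' : Type u) [CommRing R] [CommRing R'] [Algebra R R'] [Module.FaithfullyFlat R R']
    (N : Over (Spec (CommRingCat.of R))) [IsProper (Red.bc (sp R R') N).hom] : IsProper N.hom := by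
  have h : (algebraMap R R').FaithfullyFlat := by
    rw [RingHom.faithfullyFlat_algebraMap_iff]
    infer_instance
  obtain ⟨h2, h1⟩ := (flat_and_surjective_SpecMap_iff (CommRingCat.ofHom (algebraMap R R'))).2 h
  exact MorphismProperty.of_isPullback_of_descendsAlong (P := @IsProper)
    (Q := (@Surjective ⊓ @Flat ⊓ @QuasiCompact : MorphismProperty Scheme.{u}))
    (IsPullback.of_hasPullback N.hom (sp R R')).flip ⟨⟨h1, h2⟩, inferInstance⟩
    (inferInstanceAs (IsProper (Red.bc (sp R R') N).hom))

open IsLocalRing in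
/-- **The semistable half of Tate's criterion** over arbitrary discrete valuation rings of mixed characteristic. -/
theorem main (hV : VIA.{u}) (R K : Type u) [CommRing R] [IsDomain R] [IsDiscreteValuationRing R] [CharZero R]
    [Field K] [Algebra R K] [IsFractionRing R K] (p : ℕ) [Fact p.Prime] (hp : (p : R) ∈ IsLocalRing.maximalIdeal R)
    (A : Over (Spec (CommRingCat.of K))) [GrpObj A] [IsCommMonObj A] [IsProper A.hom] [GeometricallyIntegral A.hom]
    (hA : SGA7.HasSemistableReduction R K A)
    (P : ℕ → Over (Spec (CommRingCat.of K))) [∀ ν, GrpObj (P ν)] (i : ∀ ν, P ν ⟶ A) (t : ∀ ν, P (ν + 1) ⟶ P ν)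
    (hP : BTGrp.IsTatePro A p P i t)
    (h : ℕ) (G : BTGrp.ProBT p (Spec (CommRingCat.of R)) h)
    (e : ∀ ν, Red.bc (Spec.map (CommRingCat.ofHom (algebraMap R K))) (G.G ν) ≅ P ν)
    (he : ∀ ν, IsMonHom (e ν).hom)
    (het : ∀ ν, (SGA7.genFib R K).map (G.proj ν) ≫ (e ν).hom = (e (ν + 1)).hom ≫ t ν)
    (hei : ∀ ν, (SGA7.genFib R K).map (G.incl ν) ≫ (e (ν + 1)).hom ≫ i (ν + 1) = (e ν).hom ≫ i ν) :
    SGA7.HasGoodReduction R K A := by
  obtain ⟨N, iN, e₀, he₀, hs, hsep, hqc, hN⟩ := hA
  obtain ⟨R', _, _, _, _, hcomp, hcl, hloc, hinj, -⟩ := K564.Tate.exists_big R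
  let K' := FractionRing R'
  let _ : Algebra K K' := (IsFractionRing.lift (K := K) (g := (algebraMap R' K').comp (algebraMap R R'))
    ((IsFractionRing.injective R' K').comp hinj)).toAlgebra
  have hst : IsScalarTower R K K' := IsScalarTower.of_algebraMap_eq fun x => by
    rw [RingHom.algebraMap_toAlgebra, IsFractionRing.lift_algebraMap]
    rfl
  have hch : CharZero R' := charZero_of_injective_algebraMap hinj
  have hp' : (p : R') ∈ maximalIdeal R' := by
    rw [mem_maximalIdeal, mem_nonunits_iff]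
    intro hu
    rw [← map_natCast (algebraMap R R')] at hu
    exact (mem_maximalIdeal (p : R)).1 hp (isUnit_of_map_unit (algebraMap R R') _ hu)
  have hei₀ : IsIso e₀.hom.left := inferInstanceAs (IsIso ((Over.forget _).map e₀.hom))
  have hg1 : GeometricallyIntegral (Red.bc (sp R K) N).hom := by
    rw [← Over.w e₀.hom]
    exact (MorphismProperty.cancel_left_of_respectsIso @GeometricallyIntegral _ _).2 inferInstance
  have hg2 : IsProper (Red.bc (sp R K) N).hom := by
    rw [← Over.w e₀.hom]
    infer_instance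
  have hNc : IsCommMonObj N := Groth.Agent.Sga7.H740.Comm.isCommMonObj_of_abelian R K N
  have hs' : Smooth (Red.bc (sp R R') N).hom := inferInstanceAs (Smooth (pullback.snd N.hom (sp R R')))
  have hsep' : IsSeparated (Red.bc (sp R R') N).hom := inferInstanceAs (IsSeparated (pullback.snd N.hom (sp R R')))
  have hqc' : QuasiCompact (Red.bc (sp R R') N).hom := inferInstanceAs (QuasiCompact (pullback.snd N.hom (sp R R')))
  have hNc' : IsCommMonObj (Red.bc (sp R R') N) := inferInstance
  have hN' : SGA7.FibresUnipotentRankZero (Red.bc (sp R R') N) :=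
    Groth.Agent.Sga7.H738.RankZeroBc.fibresUnipotentRankZero_bc Groth.Agent.Sga7.H738.S4057Comm.l2 (sp R R') N hN
  have hA1 : IsCommMonObj (Red.bc (sp K K') A) := inferInstance
  have hA2 : IsProper (Red.bc (sp K K') A).hom := inferInstanceAs (IsProper (pullback.snd A.hom (sp K K')))
  have hA3 : GeometricallyIntegral (Red.bc (sp K K') A).hom :=
    inferInstanceAs (GeometricallyIntegral (pullback.snd A.hom (sp K K')))
  have hgood : SGA7.HasGoodReduction R' K' (Red.bc (sp K K') A) :=
    via_cs hV R' K' p hp' (Red.bc (sp R R') N) hN' (Red.bc (sp K K') A) (bcE e₀) (isMonHom_bcE e₀ he₀)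
      (fun ν => Red.bc (sp K K') (P ν)) (fun ν => (Over.pullback (sp K K')).map (i ν))
      (fun ν => (Over.pullback (sp K K')).map (t ν)) (BT.isTatePro_bc (sp K K') hP) h (BT.bcBT (sp R R') G)
      (fun ν => bcE (e ν)) (fun ν => isMonHom_bcE (e ν) (he ν))
      (fun ν => bcE_comm (e (ν + 1)) (e ν) (G.proj ν) (t ν) (het ν))
      (fun ν => bcE_comm3 (e ν) (e (ν + 1)) (G.incl ν) (i ν) (i (ν + 1)) (hei ν))
  have hprop : IsProper (Red.bc (sp R R') N).hom :=
    isProper_of_good R' K' (Red.bc (sp R R') N) hN' (bcE e₀) (isMonHom_bcE e₀ he₀) hgood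
  have hfs : FaithfulSMul R R' := (faithfulSMul_iff_algebraMap_injective R R').2 hinj
  have hflat : Module.Flat R R' := inferInstance
  have hff : Module.FaithfullyFlat R R' := Module.FaithfullyFlat.of_flat_of_isLocalHom
  have hprop2 : IsProper N.hom := isProper_of_bc R R' N
  exact hasGoodReduction_of_isProper R K N e₀ he₀

end K411.Via
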