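import Groth.Agent.SGA7.K411.Graph

/-!
# The closure of the graph as a finite free Hopf algebra, and Tate's theorem (node NFull)
-/

set_option autoImplicit false
set_option linter.unusedSectionVars false

universe u

open TensorProduct WithConv K564.Tate K411.SurjR K411.Graph

namespace K411.Graph

variable {R : Type u} [CommRing R] [IsDomain R] [IsDiscreteValuationRing R] {K : Type u} [Field K] [Algebra R K]
  [IsFractionRing R K]
  {B B' : Type u} [CommRing B] [HopfAlgebra R B] [Coalgebra.IsCocomm R B] [Module.Finite R B] [Module.Free R B]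
  [CommRing B'] [HopfAlgebra R B'] [Coalgebra.IsCocomm R B'] [Module.Finite R B'] [Module.Free R B']
  (φ : K ⊗[R] B' →ₐc[K] K ⊗[R] B)

/-- the ideal of the closure of the graph -/
noncomputable def J : Ideal (B ⊗[R] B') :=
  (RingHom.ker (G φ)).comap (K502.GenFib.i R K (B ⊗[R] B'))

instance isHopfIdeal_J : (J φ).IsHopfIdeal R := by
  have := Groth.Agent.Books.AffBridge2.isHopfIdeal_ker_of_surjective (R := K) (A := K ⊗[R] (B ⊗[R] B'))
    (B := K ⊗[R] B) (G φ) (G_surj φ)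
  exact K502.GenFib.isHopfIdeal_comap _

/-- the algebra of the closure of the graph -/
abbrev E : Type u := (B ⊗[R] B') ⧸ J φ

instance flat_E : Module.Flat R (E φ) := K502.GenFib.flat_quot_comap (RingHom.ker (G φ))

instance free_E : Module.Free R (E φ) := by
  have : Module.IsTorsionFree R (E φ) := inferInstance
  infer_instance

/-- the quotient map -/
noncomputable def q : B ⊗[R] B' →ₐc[R] E φ := Bialgebra.Quotient.mkBialgHom (R := R) (J φ)

theorem q_surj : Function.Surjective (q φ) := Ideal.Quotient.mk_surjective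

theorem q_eq_zero (c : B ⊗[R] B') : q φ c = 0 ↔ G φ (1 ⊗ₜ c) = 0 := Ideal.Quotient.eq_zero_iff_mem

instance cocomm_E : Coalgebra.IsCocomm R (E φ) := Lift.isCocomm_of_surjective (q φ) (q_surj φ)

/-- the embedding in the generic fibre of `B` -/
noncomputable def e : E φ →ₐ[R] K ⊗[R] B :=
  Ideal.Quotient.liftₐ (J φ) (((G φ : K ⊗[R] (B ⊗[R] B') →ₐ[K] K ⊗[R] B).restrictScalars R).comp
    (K502.GenFib.i R K (B ⊗[R] B'))) (fun _ ha => ha)

theorem e_q (c : B ⊗[R] B') : e φ (q φ c) = G φ (1 ⊗ₜ c) := rfl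

theorem e_inj : Function.Injective (e φ) := by
  rw [injective_iff_map_eq_zero]
  intro x hx
  obtain ⟨c, rfl⟩ := q_surj φ x
  rw [e_q] at hx
  rwa [q_eq_zero]

/-- the map from `B` -/
noncomputable def u : B →ₐc[R] E φ := (q φ).comp (i1 R B B')

/-- the map from `B'` -/
noncomputable def ψ : B' →ₐc[R] E φ := (q φ).comp (i2 R B B')

theorem e_u (x : B) : e φ (u φ x) = 1 ⊗ₜ x := by
  change e φ (q φ (i1 R B B' x)) = _
  rw [e_q, i1_apply, G_tmul]
  have : (1 : K) ⊗ₜ[R] (1 : B') = 1 := rfl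
  rw [this, map_one, mul_one]

theorem e_ψ (x : B') : e φ (ψ φ x) = φ (1 ⊗ₜ x) := by
  change e φ (q φ (i2 R B B' x)) = _
  rw [e_q, i2_apply, G_tmul]
  have : (1 : K) ⊗ₜ[R] (1 : B) = 1 := rfl
  rw [this, one_mul]

theorem includeRight_inj : Function.Injective (fun x : B => (1 : K) ⊗ₜ[R] x) :=
  Algebra.TensorProduct.includeRight_injective (IsFractionRing.injective R K)

theorem u_inj : Function.Injective (u φ) := by
  intro x y hxy
  apply includeRight_inj (R := R) (K := K) (B := B)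
  change (1 : K) ⊗ₜ[R] x = 1 ⊗ₜ y
  rw [← e_u φ, ← e_u φ, hxy]

theorem u_gen (b : E φ) : ∃ r : R, r ≠ 0 ∧ ∃ a, u φ a = r • b := by
  obtain ⟨r, hr, a, ha⟩ := K502.GenFib.exists_smul (R := R) (e φ b)
  refine ⟨r, hr, a, e_inj φ ?_⟩
  rw [e_u, map_smul, ha]
  rfl

theorem rank_E : Module.finrank R (E φ) = Module.finrank R B :=
  (Sat.finrank_eq (u φ : B →ₐ[R] E φ).toLinearMap (u_inj φ) (u_gen φ)).symm

theorem q_tmul (x : B) (y : B') : q φ (x ⊗ₜ y) = u φ x * ψ φ y := by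
  change _ = q φ (i1 R B B' x) * q φ (i2 R B B' y)
  rw [← map_mul, i1_apply, i2_apply, Algebra.TensorProduct.tmul_mul_tmul, mul_one, one_mul]

/-- two algebra maps on `E` which agree on `B` and `B'` are equal -/
theorem ext_E {D : Type u} [CommRing D] [Algebra R D] (f g : E φ →ₐ[R] D) (h1 : ∀ x, f (u φ x) = g (u φ x))
    (h2 : ∀ x, f (ψ φ x) = g (ψ φ x)) (z : E φ) : f z = g z := by
  obtain ⟨c, rfl⟩ := q_surj φ z
  induction c with
  | zero => simp
  | add x y hx hy => rw [map_add, map_add, map_add, hx, hy]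
  | tmul x y => rw [q_tmul, map_mul, map_mul, h1, h2]

section functor

variable {B₂ B₂' : Type u} [CommRing B₂] [HopfAlgebra R B₂] [Coalgebra.IsCocomm R B₂] [Module.Finite R B₂]
  [Module.Free R B₂]
  [CommRing B₂'] [HopfAlgebra R B₂'] [Coalgebra.IsCocomm R B₂'] [Module.Finite R B₂'] [Module.Free R B₂']
  (φ₂ : K ⊗[R] B₂' →ₐc[K] K ⊗[R] B₂) (f : B₂ →ₐc[R] B) (f' : B₂' →ₐc[R] B')
  (h : ∀ a, φ (1 ⊗ₜ f' a) = bc K f (φ₂ (1 ⊗ₜ a)))

include h in
theorem G_map (c : B₂ ⊗[R] B₂') : G φ (1 ⊗ₜ (Bialgebra.TensorProduct.map f f' c)) = bc K f (G φ₂ (1 ⊗ₜ c)) := by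
  induction c with
  | zero => simp
  | add x y hx hy => simp only [TensorProduct.tmul_add, map_add, hx, hy]
  | tmul x y =>
    rw [Bialgebra.TensorProduct.map_tmul, G_tmul, G_tmul, map_mul, h, bc_tmul]

include h in
theorem exists_map : ∃ g : E φ₂ →ₐc[R] E φ, (∀ x, g (u φ₂ x) = u φ (f x)) ∧ (∀ x, g (ψ φ₂ x) = ψ φ (f' x)) := by
  obtain ⟨g, hg⟩ := Lift.exists_desc (q φ₂) (q_surj φ₂) ((q φ).comp (Bialgebra.TensorProduct.map f f')) (by
    intro t ht
    change q φ (Bialgebra.TensorProduct.map f f' t) = 0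
    rw [q_eq_zero] at ht ⊢
    rw [G_map φ φ₂ f f' h, ht, map_zero])
  refine ⟨g, fun x => ?_, fun x => ?_⟩
  · refine (hg (i1 R B₂ B₂' x)).trans ?_
    change q φ (Bialgebra.TensorProduct.map f f' (i1 R B₂ B₂' x)) = q φ (i1 R B B' (f x))
    rw [i1_apply, i1_apply, Bialgebra.TensorProduct.map_tmul, map_one]
  · refine (hg (i2 R B₂ B₂' x)).trans ?_
    change q φ (Bialgebra.TensorProduct.map f f' (i2 R B₂ B₂' x)) = q φ (i2 R B B' (f' x))
    rw [i2_apply, i2_apply, Bialgebra.TensorProduct.map_tmul, map_one]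

/-- the induced map of closures of graphs -/
noncomputable def mp : E φ₂ →ₐc[R] E φ := (exists_map φ φ₂ f f' h).choose

theorem mp_u (x : B₂) : mp φ φ₂ f f' h (u φ₂ x) = u φ (f x) := (exists_map φ φ₂ f f' h).choose_spec.1 x

theorem mp_ψ (x : B₂') : mp φ φ₂ f f' h (ψ φ₂ x) = ψ φ (f' x) := (exists_map φ φ₂ f f' h).choose_spec.2 x

theorem e_mp (z : E φ₂) : e φ (mp φ φ₂ f f' h z) = bc K f (e φ₂ z) := by
  refine ext_E φ₂ ((e φ).comp (mp φ φ₂ f f' h : E φ₂ →ₐ[R] E φ))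
    (((bc K f : K ⊗[R] B₂ →ₐ[K] K ⊗[R] B).restrictScalars R).comp (e φ₂)) (fun x => ?_) (fun x => ?_) z
  · change e φ (mp φ φ₂ f f' h (u φ₂ x)) = bc K f (e φ₂ (u φ₂ x))
    rw [mp_u, e_u, e_u, bc_tmul]
  · change e φ (mp φ φ₂ f f' h (ψ φ₂ x)) = bc K f (e φ₂ (ψ φ₂ x))
    rw [mp_ψ, e_ψ, e_ψ, h]

theorem mp_surj (hf : Function.Surjective f) (hf' : Function.Surjective f') :
    Function.Surjective (mp φ φ₂ f f' h) := by
  intro z
  obtain ⟨c, rfl⟩ := q_surj φ z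
  induction c with
  | zero => exact ⟨0, by rw [map_zero, map_zero]⟩
  | add x y hx hy =>
    obtain ⟨a, ha⟩ := hx
    obtain ⟨b, hb⟩ := hy
    exact ⟨a + b, by rw [map_add, map_add, ha, hb]⟩
  | tmul x y =>
    obtain ⟨x, rfl⟩ := hf x
    obtain ⟨y, rfl⟩ := hf' y
    exact ⟨u φ₂ x * ψ φ₂ y, by rw [map_mul, mp_u, mp_ψ, q_tmul]⟩

theorem mp_inj (hf : Function.Injective (bc K f)) : Function.Injective (mp φ φ₂ f f' h) := by
  intro x y hxy
  apply e_inj φ₂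
  apply hf
  rw [← e_mp φ φ₂ f f' h, ← e_mp φ φ₂ f f' h, hxy]

end functor

end K411.Graph

namespace K411.Tate

/-- NODE (V): Tate's theorem from the properties of trace ideals and the invariance of the dimension. -/
theorem main (hMul : NMul.{u}) (hLe : NLe.{u}) (hEq : NEq.{u}) (hPow : NPow.{u}) (hDim : NDim.{u}) : NFull.{u} := by
  intro R K _ _ _ _ _ _ _ _ _ p h h' _ hp Φ Φ' φ hres hinf
  have hr : ∀ n (a : Φ'.B (n + 1)), φ n (1 ⊗ₜ Φ'.res n a) = bc K (Φ.res n) (φ (n + 1) (1 ⊗ₜ a)) := hres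
  have hi : ∀ n (a : Φ'.B n), φ (n + 1) (1 ⊗ₜ Φ'.inf n a) = bc K (Φ.inf n) (φ n (1 ⊗ₜ a)) := hinf
  have hpow : ∀ (S : ℕ) (Ψ : Sys R p S) (n : ℕ) (x : Ψ.B n), Ψ.res n (Ψ.inf n x) =
      ((toConv (BialgHom.id R (Ψ.B n))) ^ p).ofConv x := fun S Ψ n x =>
    congrArg (fun g : Ψ.B n →ₐc[R] Ψ.B n => g x) (Ψ.res_inf n)
  have hpow' : ∀ (S : ℕ) (Ψ : Sys R p S) (n : ℕ) (x : Ψ.B (n + 1)), Ψ.inf n (Ψ.res n x) =
      ((toConv (BialgHom.id R (Ψ.B (n + 1)))) ^ p).ofConv x := fun S Ψ n x =>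
    congrArg (fun g : Ψ.B (n + 1) →ₐc[R] Ψ.B (n + 1) => g x) (Ψ.inf_res n)
  let E₀ : PreSys R p h :=
    { B := fun n => E (φ n)
      rank := fun n => (rank_E (φ n)).trans (Φ.rank n)
      res := fun n => mp (φ n) (φ (n + 1)) (Φ.res n) (Φ'.res n) (hr n)
      inf := fun n => mp (φ (n + 1)) (φ n) (Φ.inf n) (Φ'.inf n) (hi n)
      res_surj := fun n => mp_surj _ _ _ _ _ (Φ.res_surj n) (Φ'.res_surj n)
      inf_inj := fun n => mp_inj _ _ _ _ _ (bc_injective K _ (Φ.inf_inj n) (Φ.inf_sat n))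
      res_inf := fun n x => by
        refine ext_E (φ n) (((mp (φ n) (φ (n + 1)) (Φ.res n) (Φ'.res n) (hr n)).comp
          (mp (φ (n + 1)) (φ n) (Φ.inf n) (Φ'.inf n) (hi n)) : E (φ n) →ₐc[R] E (φ n)) : E (φ n) →ₐ[R] E (φ n))
          ((((toConv (BialgHom.id R (E (φ n)))) ^ p).ofConv : E (φ n) →ₐc[R] E (φ n)) : E (φ n) →ₐ[R] E (φ n))
          (fun x => ?_) (fun x => ?_) x
        · change mp _ _ _ _ _ (mp _ _ _ _ _ (u (φ n) x)) = ((toConv (BialgHom.id R (E (φ n)))) ^ p).ofConv (u (φ n) x)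
          rw [mp_u, mp_u, hpow, Lift.pow_id_comm]
        · change mp _ _ _ _ _ (mp _ _ _ _ _ (ψ (φ n) x)) = ((toConv (BialgHom.id R (E (φ n)))) ^ p).ofConv (ψ (φ n) x)
          rw [mp_ψ, mp_ψ, hpow, Lift.pow_id_comm]
      inf_res := fun n x => by
        refine ext_E (φ (n + 1)) (((mp (φ (n + 1)) (φ n) (Φ.inf n) (Φ'.inf n) (hi n)).comp
          (mp (φ n) (φ (n + 1)) (Φ.res n) (Φ'.res n) (hr n)) : E (φ (n + 1)) →ₐc[R] E (φ (n + 1))) :
            E (φ (n + 1)) →ₐ[R] E (φ (n + 1)))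
          ((((toConv (BialgHom.id R (E (φ (n + 1))))) ^ p).ofConv : E (φ (n + 1)) →ₐc[R] E (φ (n + 1))) :
            E (φ (n + 1)) →ₐ[R] E (φ (n + 1)))
          (fun x => ?_) (fun x => ?_) x
        · change mp _ _ _ _ _ (mp _ _ _ _ _ (u (φ (n + 1)) x)) =
            ((toConv (BialgHom.id R (E (φ (n + 1))))) ^ p).ofConv (u (φ (n + 1)) x)
          rw [mp_u, mp_u, hpow', Lift.pow_id_comm]
        · change mp _ _ _ _ _ (mp _ _ _ _ _ (ψ (φ (n + 1)) x)) =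
            ((toConv (BialgHom.id R (E (φ (n + 1))))) ^ p).ofConv (ψ (φ (n + 1)) x)
          rw [mp_ψ, mp_ψ, hpow', Lift.pow_id_comm] }
  intro n a
  have hs := surjective_of_dim hMul hLe hEq hPow Φ E₀ (fun n => u (φ n)) (fun n => u_inj (φ n))
    (fun n => u_gen (φ n)) (fun n a => (mp_u (φ n) (φ (n + 1)) (Φ.res n) (Φ'.res n) (hr n) a).symm)
    (fun n a => (mp_u (φ (n + 1)) (φ n) (Φ.inf n) (Φ'.inf n) (hi n) a).symm)
    (fun Γ v h1 h2 h3 h4 => hDim R p h hp Γ Φ v h1 h2 h3 h4) n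
  obtain ⟨b, hb⟩ := hs (ψ (φ n) a)
  refine ⟨b, ?_⟩
  rw [← e_ψ, ← e_u (φ n)]
  exact congrArg (e (φ n)) hb.symm

end K411.Tate
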