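import Groth.Prelude.Def_BT
import Groth.Prelude.Def_SGA7IX
import Groth.Agent.Sga3B.BcIso

/-!
# Base change of Barsotti-Tate groups and of Tate pro-systems

* `isKernel_map`, `map_id_pow`, `map_pow`: base change of kernels and of power maps;
* `bcBT f G`: the base change of the `ℓ`-divisible group `G` (levels `Red.bc f (G.G ν)`);
* `isTatePro_bc`: base change of the projective system of the torsion of a commutative group scheme;
* `sqNat`: for a commutative square of base schemes the natural isomorphism of the two base changes, `isMonHom_sqNat`;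


-/

set_option autoImplicit false

universe u

open CategoryTheory CategoryTheory.Limits MonoidalCategory CartesianMonoidalCategory MonObj AlgebraicGeometry

namespace K411.BT

section General

variable {S S' : Scheme.{u}} (f : S' ⟶ S)

/-- Base change of kernels. -/
theorem isKernel_map {N G Q : Over S} [GrpObj Q] {i : N ⟶ G} {q : G ⟶ Q} (h : AlgGrp.IsKernel i q) :
    AlgGrp.IsKernel ((Over.pullback f).map i : Red.bc f N ⟶ Red.bc f G)
      ((Over.pullback f).map q : Red.bc f G ⟶ Red.bc f Q) := by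
  refine IsPullback.of_iso (h.map (Over.pullback f)) (Iso.refl _) (Iso.refl _)
    (Functor.Monoidal.εIso (Over.pullback f)).symm (Iso.refl _) ?_ ?_ ?_ ?_
  · simp
  · exact toUnit_unique _ _
  · simp
  · rw [Iso.symm_hom, Iso.refl_hom, Category.comp_id, Iso.eq_inv_comp]
    rfl

theorem map_pow {X G : Over S} [GrpObj G] (x : X ⟶ G) (n : ℕ) :
    (Over.pullback f).map (x ^ n) = (((Over.pullback f).map x : Red.bc f X ⟶ Red.bc f G)) ^ n := by
  induction n with
  | zero => rw [pow_zero, pow_zero, Functor.map_one]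
  | succ n ih => rw [pow_succ, pow_succ, Functor.map_mul, ih]

theorem map_id_pow (G : Over S) [GrpObj G] (n : ℕ) :
    (Over.pullback f).map ((𝟙 G : G ⟶ G) ^ n) = (𝟙 (Red.bc f G) : Red.bc f G ⟶ Red.bc f G) ^ n := by
  rw [map_pow, CategoryTheory.Functor.map_id]

theorem isFinLocFreeOfDeg_bc {X : Over S} {d : ℕ} (h : Mor2.IsFinLocFreeOfDeg d X.hom) :
    Mor2.IsFinLocFreeOfDeg d (Red.bc f X).hom := by
  obtain ⟨⟨h1, h2, h3⟩, h4⟩ := h
  refine ⟨⟨?_, ?_, ?_⟩, ?_⟩
  · change IsFinite (pullback.snd X.hom f)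
    infer_instance
  · change Flat (pullback.snd X.hom f)
    infer_instance
  · change LocallyOfFinitePresentation (pullback.snd X.hom f)
    infer_instance
  · intro y
    change (pullback.snd X.hom f).finrank y = d
    rw [Scheme.Hom.finrank_pullback_snd]
    exact h4 _

/-- Base change of an `ℓ`-divisible group. -/
noncomputable def bcBT {l h : ℕ} (G : BTGrp.ProBT l S h) : BTGrp.ProBT l S' h where
  G ν := Red.bc f (G.G ν)
  incl ν := (Over.pullback f).map (G.incl ν)
  proj ν := (Over.pullback f).map (G.proj ν)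
  finLocFree ν := isFinLocFreeOfDeg_bc f (G.finLocFree ν)
  incl_proj ν := by
    rw [← CategoryTheory.Functor.map_comp, G.incl_proj]
    exact map_id_pow f _ _
  proj_incl ν := by
    rw [← CategoryTheory.Functor.map_comp, G.proj_incl]
    exact map_id_pow f _ _
  isKernel ν := by
    have h1 := isKernel_map f (G.isKernel ν)
    rw [map_id_pow] at h1
    exact h1

/-- Base change of the Tate system of a commutative group scheme. -/
theorem isTatePro_bc {A : Over S} [GrpObj A] [IsCommMonObj A] {l : ℕ} {P : ℕ → Over S} [∀ ν, GrpObj (P ν)]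
    {i : ∀ ν, P ν ⟶ A} {t : ∀ ν, P (ν + 1) ⟶ P ν} (hP : BTGrp.IsTatePro A l P i t) :
    BTGrp.IsTatePro (Red.bc f A) l (fun ν => Red.bc f (P ν)) (fun ν => (Over.pullback f).map (i ν))
      (fun ν => (Over.pullback f).map (t ν)) := by
  refine ⟨fun ν => ⟨?_, ?_⟩, fun ν => ⟨?_, ?_⟩⟩
  · have := (hP.1 ν).1
    infer_instance
  · have h1 := isKernel_map f (hP.1 ν).2
    rw [map_id_pow] at h1
    exact h1
  · have := (hP.2 ν).1
    infer_instance
  · rw [← map_pow, ← (hP.2 ν).2, CategoryTheory.Functor.map_comp]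

end General

section Square

variable {S₀ S₁ S₂ S₃ : Scheme.{u}}

/-- Base changes along equal morphisms. -/
noncomputable def congNat {f g : S₁ ⟶ S₀} (w : f = g) : Over.pullback f ≅ Over.pullback g :=
  eqToIso (by subst w; rfl)

theorem isMonHom_congNat {f g : S₁ ⟶ S₀} (w : f = g) (G : Over S₀) [GrpObj G] :
    IsMonHom (M := Red.bc f G) (N := Red.bc g G) ((congNat w).hom.app G) := by
  subst w
  exact inferInstanceAs (IsMonHom (𝟙 (Red.bc f G)))

theorem isMonHom_pullbackComp_hom (c : S₂ ⟶ S₁) (a : S₁ ⟶ S₀) (G : Over S₀) [GrpObj G] :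
    IsMonHom (M := Red.bc (c ≫ a) G) (N := Red.bc c (Red.bc a G)) ((Over.pullbackComp c a).hom.app G) := by
  have h := (Groth.Agent.Sga3B.BcIso.bcCompIso c a G).hom.hom.isMonHom_hom
  have e : (Groth.Agent.Sga3B.BcIso.bcCompIso c a G).hom.hom.hom = (Over.pullbackComp c a).hom.app G := by
    change (Over.pullbackComp c a).hom.app G ≫ 𝟙 _ = _
    exact Category.comp_id _
  exact e ▸ h

theorem isMonHom_pullbackComp_inv (c : S₂ ⟶ S₁) (a : S₁ ⟶ S₀) (G : Over S₀) [GrpObj G] :
    IsMonHom (M := Red.bc c (Red.bc a G)) (N := Red.bc (c ≫ a) G) ((Over.pullbackComp c a).inv.app G) := by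
  have h := isMonHom_pullbackComp_hom c a G
  let e : Red.bc (c ≫ a) G ≅ Red.bc c (Red.bc a G) := (Over.pullbackComp c a).app G
  have h' : IsMonHom e.hom := h
  exact inferInstanceAs (IsMonHom e.inv)

/-- The natural isomorphism of the two base changes of a commutative square of base schemes. -/
noncomputable def sqNat {a : S₁ ⟶ S₀} {b : S₂ ⟶ S₀} {c : S₃ ⟶ S₁} {d : S₃ ⟶ S₂} (w : c ≫ a = d ≫ b) :
    Over.pullback a ⋙ Over.pullback c ≅ Over.pullback b ⋙ Over.pullback d :=
  (Over.pullbackComp c a).symm ≪≫ congNat w ≪≫ Over.pullbackComp d b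

/-- The component at a group scheme. -/
noncomputable abbrev sqI {a : S₁ ⟶ S₀} {b : S₂ ⟶ S₀} {c : S₃ ⟶ S₁} {d : S₃ ⟶ S₂} (w : c ≫ a = d ≫ b) (G : Over S₀) :
    Red.bc c (Red.bc a G) ≅ Red.bc d (Red.bc b G) := (sqNat w).app G

theorem isMonHom_sqI {a : S₁ ⟶ S₀} {b : S₂ ⟶ S₀} {c : S₃ ⟶ S₁} {d : S₃ ⟶ S₂} (w : c ≫ a = d ≫ b) (G : Over S₀)
    [GrpObj G] : IsMonHom (sqI w G).hom := by
  let e1 : Red.bc c (Red.bc a G) ⟶ Red.bc (c ≫ a) G := (Over.pullbackComp c a).inv.app G
  let e2 : Red.bc (c ≫ a) G ⟶ Red.bc (d ≫ b) G := (congNat w).hom.app G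
  let e3 : Red.bc (d ≫ b) G ⟶ Red.bc d (Red.bc b G) := (Over.pullbackComp d b).hom.app G
  have h1 : IsMonHom e1 := isMonHom_pullbackComp_inv c a G
  have h2 : IsMonHom e2 := isMonHom_congNat w G
  have h3 : IsMonHom e3 := isMonHom_pullbackComp_hom d b G
  exact inferInstanceAs (IsMonHom (e1 ≫ e2 ≫ e3))

theorem sqI_naturality {a : S₁ ⟶ S₀} {b : S₂ ⟶ S₀} {c : S₃ ⟶ S₁} {d : S₃ ⟶ S₂} (w : c ≫ a = d ≫ b) {G H : Over S₀}
    (f : G ⟶ H) : (Over.pullback c).map ((Over.pullback a).map f) ≫ (sqI w H).hom =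
      (sqI w G).hom ≫ (Over.pullback d).map ((Over.pullback b).map f) :=
  (sqNat w).hom.naturality f

end Square

end K411.BT
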