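import Groth.Agent.SGA7.K411.Next
import Groth.Agent.Hopf.K502.GenFib

/-!
# The closure of the graph of a homomorphism of generic fibres
-/

set_option autoImplicit false
set_option linter.unusedSectionVars false

universe u

open TensorProduct WithConv K564.Tate K411.SurjR

namespace K411.Graph

section Maps

variable (R : Type u) [CommRing R] (B B' : Type u) [CommRing B] [HopfAlgebra R B] [CommRing B'] [HopfAlgebra R B']

/-- the first inclusion -/
noncomputable def i1 : B →ₐc[R] B ⊗[R] B' :=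
  (Bialgebra.TensorProduct.map (BialgHom.id R B) (Bialgebra.unitBialgHom R B')).comp
    ((Bialgebra.TensorProduct.rid R R B).symm : B →ₐc[R] B ⊗[R] R)

/-- the second inclusion -/
noncomputable def i2 : B' →ₐc[R] B ⊗[R] B' :=
  (Bialgebra.TensorProduct.map (Bialgebra.unitBialgHom R B) (BialgHom.id R B')).comp
    ((Bialgebra.TensorProduct.lid R B').symm : B' →ₐc[R] R ⊗[R] B')

/-- the first projection -/
noncomputable def p1 : B ⊗[R] B' →ₐc[R] B :=
  ((Bialgebra.TensorProduct.rid R R B) : B ⊗[R] R →ₐc[R] B).comp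
    (Bialgebra.TensorProduct.map (BialgHom.id R B) (Bialgebra.counitBialgHom R B'))

/-- the second projection -/
noncomputable def p2 : B ⊗[R] B' →ₐc[R] B' :=
  ((Bialgebra.TensorProduct.lid R B') : R ⊗[R] B' →ₐc[R] B').comp
    (Bialgebra.TensorProduct.map (Bialgebra.counitBialgHom R B) (BialgHom.id R B'))

theorem i1_apply (x : B) : i1 R B B' x = x ⊗ₜ 1 := by
  change x ⊗ₜ[R] (algebraMap R B' 1) = _
  rw [map_one]

theorem i2_apply (x : B') : i2 R B B' x = 1 ⊗ₜ x := by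
  change (algebraMap R B 1) ⊗ₜ[R] x = _
  rw [map_one]

theorem p1_tmul (x : B) (y : B') : p1 R B B' (x ⊗ₜ y) = Coalgebra.counit (R := R) y • x := rfl

theorem p2_tmul (x : B) (y : B') : p2 R B B' (x ⊗ₜ y) = Coalgebra.counit (R := R) x • y := rfl

end Maps

section G

variable {R : Type u} [CommRing R] {K : Type u} [Field K] [Algebra R K]
  {B B' : Type u} [CommRing B] [HopfAlgebra R B] [Coalgebra.IsCocomm R B] [CommRing B'] [HopfAlgebra R B']
  [Coalgebra.IsCocomm R B'] (φ : K ⊗[R] B' →ₐc[K] K ⊗[R] B)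

/-- the comorphism of the graph -/
noncomputable def G : K ⊗[R] (B ⊗[R] B') →ₐc[K] K ⊗[R] B :=
  (toConv (bc K (p1 R B B')) * toConv (φ.comp (bc K (p2 R B B')))).ofConv

/-- first component as an algebra map -/
noncomputable def F1 (R : Type u) [CommRing R] (K : Type u) [Field K] [Algebra R K]
    (B B' : Type u) [CommRing B] [HopfAlgebra R B] [CommRing B'] [HopfAlgebra R B'] :
    K ⊗[R] (B ⊗[R] B') →ₐ[K] K ⊗[R] B := (bc K (p1 R B B') : K ⊗[R] (B ⊗[R] B') →ₐ[K] K ⊗[R] B)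

/-- second component as an algebra map -/
noncomputable def F2 : K ⊗[R] (B ⊗[R] B') →ₐ[K] K ⊗[R] B :=
  (φ.comp (bc K (p2 R B B')) : K ⊗[R] (B ⊗[R] B') →ₐ[K] K ⊗[R] B)

theorem G_comp {D : Type u} [CommRing D] [HopfAlgebra K D] (j : D →ₐc[K] K ⊗[R] (B ⊗[R] B')) (d : D) :
    G φ (j d) = (toConv ((F1 R K B B').comp (j : D →ₐ[K] K ⊗[R] (B ⊗[R] B'))) *
      toConv ((F2 φ).comp (j : D →ₐ[K] K ⊗[R] (B ⊗[R] B'))) :
        WithConv (D →ₐ[K] K ⊗[R] B)).ofConv d := by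
  have h := AlgHom.convMul_comp_bialgHom_distrib (R := K) (A := K ⊗[R] B) (B := D)
    (C := K ⊗[R] (B ⊗[R] B')) (toConv (F1 R K B B')) (toConv (F2 φ)) j
  exact congrArg (fun g : D →ₐ[K] K ⊗[R] B => g d) h

theorem G_i1 (z : K ⊗[R] B) : G φ (bc K (i1 R B B') z) = z := by
  rw [G_comp]
  have h1 : (F1 R K B B').comp (bc K (i1 R B B') : K ⊗[R] B →ₐ[K] K ⊗[R] (B ⊗[R] B')) =
      AlgHom.id K (K ⊗[R] B) := by
    ext z
    change (1 : K) ⊗ₜ[R] (p1 R B B' (i1 R B B' z)) = 1 ⊗ₜ z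
    rw [i1_apply, p1_tmul, Bialgebra.counit_one, one_smul]
  have h2 : toConv ((F2 φ).comp (bc K (i1 R B B') : K ⊗[R] B →ₐ[K] K ⊗[R] (B ⊗[R] B'))) =
      (1 : WithConv (K ⊗[R] B →ₐ[K] K ⊗[R] B)) := by
    apply WithConv.ext
    apply AlgHom.ext
    intro w
    have h3 : (bc K (p2 R B B')) (bc K (i1 R B B') w) = algebraMap K _ (Coalgebra.counit w) := by
      rw [bc_bc K (i1 R B B') (p2 R B B') ((p2 R B B').comp (i1 R B B')) (fun _ => rfl)]
      apply bc_triv
      intro x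
      change p2 R B B' (i1 R B B' x) = _
      rw [i1_apply, p2_tmul, Algebra.algebraMap_eq_smul_one]
    change φ ((bc K (p2 R B B')) (bc K (i1 R B B') w)) = algebraMap K _ (Coalgebra.counit w)
    rw [h3]
    exact AlgHomClass.commutes φ _
  rw [h1, h2, mul_one]
  rfl

theorem G_i2 (z : K ⊗[R] B') : G φ (bc K (i2 R B B') z) = φ z := by
  rw [G_comp]
  have h1 : (F2 φ).comp (bc K (i2 R B B') : K ⊗[R] B' →ₐ[K] K ⊗[R] (B ⊗[R] B')) =
      (φ : K ⊗[R] B' →ₐ[K] K ⊗[R] B) := by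
    apply AlgHom.ext
    intro w
    change φ ((bc K (p2 R B B')) (bc K (i2 R B B') w)) = φ w
    congr 1
    rw [bc_bc K (i2 R B B') (p2 R B B') (BialgHom.id R B') (fun x => by
      rw [i2_apply, p2_tmul, Bialgebra.counit_one, one_smul]
      rfl)]
    induction w with
    | zero => simp
    | add x y hx hy => rw [map_add, hx, hy]
    | tmul x y => rfl
  have h2 : toConv ((F1 R K B B').comp (bc K (i2 R B B') : K ⊗[R] B' →ₐ[K] K ⊗[R] (B ⊗[R] B'))) =
      (1 : WithConv (K ⊗[R] B' →ₐ[K] K ⊗[R] B)) := by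
    apply WithConv.ext
    apply AlgHom.ext
    intro w
    change (bc K (p1 R B B')) (bc K (i2 R B B') w) = algebraMap K _ (Coalgebra.counit w)
    rw [bc_bc K (i2 R B B') (p1 R B B') ((p1 R B B').comp (i2 R B B')) (fun _ => rfl)]
    apply bc_triv
    intro x
    change p1 R B B' (i2 R B B' x) = _
    rw [i2_apply, p1_tmul, Algebra.algebraMap_eq_smul_one]
  rw [h1, h2, one_mul]
  rfl

theorem G_tmul (x : B) (y : B') : G φ (1 ⊗ₜ (x ⊗ₜ y)) = (1 ⊗ₜ x) * φ (1 ⊗ₜ y) := by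
  have h1 : (1 : K) ⊗ₜ[R] (x ⊗ₜ[R] y) = bc K (i1 R B B') (1 ⊗ₜ x) * bc K (i2 R B B') (1 ⊗ₜ y) := by
    rw [bc_tmul, bc_tmul, i1_apply, i2_apply, Algebra.TensorProduct.tmul_mul_tmul,
      Algebra.TensorProduct.tmul_mul_tmul, one_mul, mul_one, one_mul]
  rw [h1, map_mul, G_i1, G_i2]

theorem G_surj : Function.Surjective (G φ) := fun z => ⟨_, G_i1 φ z⟩

end G

end K411.Graph
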