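import Groth.Agent.SGA7.K411.PreSys

/-!
# The next tower `E_(n+1)/E_1` and the stabilization of its iterates
-/

set_option autoImplicit false
set_option linter.unusedSectionVars false

universe u

open TensorProduct WithConv K564.Tate

namespace K411.Tate

theorem trI_one {R : Type u} [CommRing R] [IsDomain R] {B : Type u} [CommRing B] [Algebra R B]
    [Module.Finite R B] [Module.Free R B] (h : Module.finrank R B = 1) : trI R B = 1 := by
  rw [Ideal.one_eq_top, Ideal.eq_top_iff_one]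
  refine ⟨1, ?_⟩
  rw [Algebra.trace_apply, map_one, LinearMap.trace_one, h, Nat.cast_one]

namespace PreSys

variable {R : Type u} [CommRing R] [IsDomain R] [IsDiscreteValuationRing R] {p h : ℕ} (E : PreSys R p h)

theorem res1_κ (n : ℕ) (x : (E.sd n).S) : E.res1 n ((E.sd n).κ x) = algebraMap R _ (Coalgebra.counit x) := by
  obtain ⟨r, hr, a, ha⟩ := (E.sd n).ι_gen x
  apply smul_right_injective (E.B 1) hr
  change r • E.res1 n ((E.sd n).κ x) = r • algebraMap R _ (Coalgebra.counit x)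
  rw [← map_smul, ← map_smul, ← ha, (E.sd n).κ_ι, res1_inf, ← CoalgHomClass.counit_comp_apply (E.sd n).ι, ha,
    map_smul, Algebra.algebraMap_eq_smul_one, Algebra.algebraMap_eq_smul_one, smul_assoc]

theorem rank_sd (n : ℕ) : Module.finrank R (E.B (n + 1)) = Module.finrank R (E.sd n).S * Module.finrank R (E.B 1) := by
  rw [(E.sd n).rank, rank_succ]

theorem res'_surj (n : ℕ) : Function.Surjective (E.res' n) :=
  SurjR.surjective (E.sd (n + 1)).κ (E.sd (n + 1)).κ_inj (E.sd (n + 1)).κ_sat (E.sd n).κ (E.sd n).κ_inj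
    (E.sd n).κ_sat (E.res (n + 1)) (E.res_surj _) (E.res' n) (E.κ_res' n) (E.res1 n) (E.res1_surj n)
    (E.res1_κ n) (E.rank_sd (n + 1)) (E.rank_sd n)

/-- the tower of the `E_(n+1)/E_1`. -/
noncomputable def next : PreSys R p h where
  B n := (E.sd n).S
  rank n := (E.sd n).rank.trans (E.rank n)
  res := E.res'
  inf n := (E.sd (n + 1)).ι.comp (E.sd n).κ
  res_surj := E.res'_surj
  inf_inj n := (E.sd (n + 1)).ι_inj.comp (E.sd n).κ_inj
  res_inf n x := by
    apply (E.sd n).κ_inj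
    rw [E.κ_res']
    change E.res (n + 1) ((E.sd (n + 1)).κ ((E.sd (n + 1)).ι ((E.sd n).κ x))) = _
    rw [(E.sd (n + 1)).κ_ι, E.res_inf, Lift.pow_id_comm]
  inf_res n x := by
    apply (E.sd (n + 1)).κ_inj
    change (E.sd (n + 1)).κ ((E.sd (n + 1)).ι ((E.sd n).κ (E.res' n x))) = _
    rw [(E.sd (n + 1)).κ_ι, E.κ_res', E.inf_res, Lift.pow_id_comm]

/-- the map to the next tower -/
noncomputable def up (n : ℕ) : E.B n →ₐc[R] E.next.B n := (E.sd n).ι

theorem up_inj (n : ℕ) : Function.Injective (E.up n) := (E.sd n).ι_inj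

theorem up_gen (n : ℕ) (x : E.next.B n) : ∃ r : R, r ≠ 0 ∧ ∃ a, E.up n a = r • x := (E.sd n).ι_gen x

theorem up_res (n : ℕ) (x : E.B (n + 1)) : E.up n (E.res n x) = E.next.res n (E.up (n + 1) x) := by
  apply (E.sd n).κ_inj
  change (E.sd n).κ ((E.sd n).ι (E.res n x)) = (E.sd n).κ (E.res' n ((E.sd (n + 1)).ι x))
  rw [E.κ_res', (E.sd n).κ_ι, (E.sd (n + 1)).κ_ι, res_inf_eq]

theorem up_inf (n : ℕ) (x : E.B n) : E.up (n + 1) (E.inf n x) = E.next.inf n (E.up n x) := by
  change (E.sd (n + 1)).ι (E.inf n x) = (E.sd (n + 1)).ι ((E.sd n).κ ((E.sd n).ι x))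
  rw [(E.sd n).κ_ι]

theorem trI_succ [CharZero R] (hMul : NMul.{u}) (n : ℕ) :
    trI R (E.B (n + 1)) = trI R (E.B 1) * trI R (E.next.B n) := by
  refine hMul R (E.B (n + 1)) (E.B 1) (E.next.B n) (E.sd n).κ (E.res1 n) (E.sd n).κ_inj (E.sd n).κ_sat
    (E.res1_surj n) ?_ (E.res1_κ n)
  rw [mul_comm]
  exact E.rank_sd n

/-- iterates -/
noncomputable def it : ℕ → PreSys R p h
  | 0 => E
  | i + 1 => (it i).next

theorem trI_it [CharZero R] (hMul : NMul.{u}) (n : ℕ) : ∀ i, trI R ((E.it i).B n) =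
    ∏ j ∈ Finset.range n, trI R ((E.it (i + j)).B 1) := by
  induction n with
  | zero =>
    intro i
    rw [Finset.prod_range_zero]
    exact trI_one (by rw [(E.it i).rank, Nat.zero_mul, pow_zero])
  | succ n ih =>
    intro i
    rw [(E.it i).trI_succ hMul, Finset.prod_range_succ', mul_comm]
    congr 1
    rw [show (E.it i).next = E.it (i + 1) from rfl, ih (i + 1)]
    refine Finset.prod_congr rfl fun j _ => ?_
    rw [Nat.add_assoc, Nat.add_comm 1 j]

theorem mono [CharZero R] (hLe : NLe.{u}) : Monotone fun i => trI R ((E.it i).B 1) := by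
  refine monotone_nat_of_le_succ fun i => ?_
  exact hLe R ((E.it i).B 1) ((E.it i).next.B 1) ((E.it i).up 1 : _ →ₐ[R] _) ((E.it i).up_inj 1) ((E.it i).up_gen 1)

theorem exists_stable [CharZero R] (hLe : NLe.{u}) : ∃ i₀, ∀ i, i₀ ≤ i →
    trI R ((E.it i).B 1) = trI R ((E.it i₀).B 1) := by
  obtain ⟨i₀, h0⟩ := monotone_stabilizes_iff_noetherian.2 (inferInstance : IsNoetherian R R)
    ⟨fun i => trI R ((E.it i).B 1), E.mono hLe⟩
  exact ⟨i₀, fun i hi => (h0 i hi).symm⟩

/-- compatible maps to the iterates -/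
theorem exists_u (i : ℕ) : ∃ u : ∀ n, E.B n →ₐc[R] (E.it i).B n, (∀ n, Function.Injective (u n)) ∧
    (∀ n (b : (E.it i).B n), ∃ r : R, r ≠ 0 ∧ ∃ a, u n a = r • b) ∧
    (∀ n a, u n (E.res n a) = (E.it i).res n (u (n + 1) a)) ∧
    (∀ n a, u (n + 1) (E.inf n a) = (E.it i).inf n (u n a)) := by
  induction i with
  | zero =>
    exact ⟨fun n => BialgHom.id R _, fun n => Function.injective_id,
      fun n b => ⟨1, one_ne_zero, b, (one_smul _ _).symm⟩, fun _ _ => rfl, fun _ _ => rfl⟩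
  | succ i ih =>
    obtain ⟨u, h1, h2, h3, h4⟩ := ih
    refine ⟨fun n => ((E.it i).up n).comp (u n), fun n => ((E.it i).up_inj n).comp (h1 n), ?_, ?_, ?_⟩
    · intro n b
      obtain ⟨r, hr, a, ha⟩ := (E.it i).up_gen n b
      obtain ⟨s, hs, c, hc⟩ := h2 n a
      refine ⟨s * r, mul_ne_zero hs hr, c, ?_⟩
      change (E.it i).up n (u n c) = _
      rw [hc, map_smul, ha, smul_smul]
      rfl
    · intro n a
      change (E.it i).up n (u n (E.res n a)) = (E.it i).next.res n ((E.it i).up (n + 1) (u (n + 1) a))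
      rw [h3, up_res]
    · intro n a
      change (E.it i).up (n + 1) (u (n + 1) (E.inf n a)) = (E.it i).next.inf n ((E.it i).up n (u n a))
      rw [h4, up_inf]

/-- a tower whose map to the next one is bijective is a Barsotti–Tate system -/
noncomputable def toSys (hs : ∀ n, Function.Surjective (E.up n)) : Sys R p h where
  B := E.B
  rank := E.rank
  res := E.res
  inf := E.inf
  res_surj := E.res_surj
  inf_inj := E.inf_inj
  inf_sat n r b hr hb := by
    obtain ⟨a, ha⟩ := hb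
    obtain ⟨c, hc⟩ := (E.sd n).κ_sat r b hr ⟨(E.sd n).ι a, by rw [(E.sd n).κ_ι, ha]⟩
    obtain ⟨d, rfl⟩ := hs n c
    refine ⟨d, ?_⟩
    rw [← hc]
    exact ((E.sd n).κ_ι d).symm
  res_inf n := by
    ext x
    exact E.res_inf n x
  inf_res n := by
    ext x
    exact E.inf_res n x

end PreSys

/-- MAIN: a generically Barsotti–Tate tower dominated by a Barsotti–Tate system equals it. -/
theorem surjective_of_dim {R : Type u} [CommRing R] [IsDomain R] [IsDiscreteValuationRing R] [CharZero R] {p h : ℕ}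
    (hMul : NMul.{u}) (hLe : NLe.{u}) (hEq : NEq.{u}) (hPow : NPow.{u}) (Φ : Sys R p h) (E : PreSys R p h)
    (u : ∀ n, Φ.B n →ₐc[R] E.B n) (h1 : ∀ n, Function.Injective (u n))
    (h2 : ∀ n (b : E.B n), ∃ r : R, r ≠ 0 ∧ ∃ a, u n a = r • b)
    (h3 : ∀ n a, u n (Φ.res n a) = E.res n (u (n + 1) a))
    (h4 : ∀ n a, u (n + 1) (Φ.inf n a) = E.inf n (u n a))
    (hDim : ∀ (Γ : Sys R p h) (v : ∀ n, Φ.B n →ₐc[R] Γ.B n), (∀ n, Function.Injective (v n)) →
      (∀ n (b : Γ.B n), ∃ r : R, r ≠ 0 ∧ ∃ a, v n a = r • b) → (∀ n a, v n (Φ.res n a) = Γ.res n (v (n + 1) a)) →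
      (∀ n a, v (n + 1) (Φ.inf n a) = Γ.inf n (v n a)) → trI R (Γ.B 1) ≤ trI R (Φ.B 1)) (n : ℕ) :
    Function.Surjective (u n) := by
  obtain ⟨i₀, hi₀⟩ := E.exists_stable hLe
  have hst : ∀ i, i₀ ≤ i → ∀ n, trI R ((E.it i).B n) = trI R ((E.it i₀).B 1) ^ n := by
    intro i hi n
    rw [E.trI_it hMul, Finset.prod_congr rfl (fun j _ => hi₀ (i + j) (hi.trans (Nat.le_add_right i j))),
      Finset.prod_const, Finset.card_range]
  have hs : ∀ n, Function.Surjective ((E.it i₀).up n) := fun n => by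
    refine hEq R ((E.it i₀).B n) ((E.it i₀).next.B n) ((E.it i₀).up n : _ →ₐ[R] _) ((E.it i₀).up_inj n)
      ((E.it i₀).up_gen n) (le_of_eq ?_)
    rw [hst i₀ le_rfl, show (E.it i₀).next = E.it (i₀ + 1) from rfl, hst (i₀ + 1) (Nat.le_succ _)]
  obtain ⟨v, v1, v2, v3, v4⟩ := E.exists_u i₀
  have hd := hDim ((E.it i₀).toSys hs) (fun n => (v n).comp (u n)) (fun n => (v1 n).comp (h1 n))
    (fun n b => by
      obtain ⟨r, hr, a, ha⟩ := v2 n b
      obtain ⟨s, hs, c, hc⟩ := h2 n a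
      refine ⟨s * r, mul_ne_zero hs hr, c, ?_⟩
      change v n (u n c) = _
      rw [hc, map_smul, ha, smul_smul]
      rfl)
    (fun n a => by
      change v n (u n (Φ.res n a)) = (E.it i₀).res n (v (n + 1) (u (n + 1) a))
      rw [h3, v3])
    (fun n a => by
      change v (n + 1) (u (n + 1) (Φ.inf n a)) = (E.it i₀).inf n (v n (u n a))
      rw [h4, v4])
  refine hEq R (Φ.B n) (E.B n) (u n : _ →ₐ[R] _) (h1 n) (h2 n) ?_
  calc trI R (E.B n) = ∏ j ∈ Finset.range n, trI R ((E.it (0 + j)).B 1) := E.trI_it hMul n 0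
    _ ≤ ∏ j ∈ Finset.range n, trI R ((E.it i₀).B 1) := by
        refine Finset.prod_le_prod' fun j _ => ?_
        rcases le_total (0 + j) i₀ with hj | hj
        · exact E.mono hLe hj
        · exact (hi₀ _ hj).le
    _ = trI R ((E.it i₀).B 1) ^ n := by rw [Finset.prod_const, Finset.card_range]
    _ ≤ trI R (Φ.B 1) ^ n := Ideal.pow_right_mono hd n
    _ = trI R (Φ.B n) := (hPow R p h Φ n).symm

end K411.Tate
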