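import Groth.Agent.SGA7.K411.SurjR
import Groth.Agent.SGA7.K564.Tate.Iface

/-!
# Towers of finite flat group schemes which are generically Barsotti–Tate, and their stabilization

`PreSys R p h` : like `K564.Tate.Sys` but without the saturation condition on `inf`.
-/

set_option autoImplicit false
set_option linter.unusedSectionVars false

universe u

open TensorProduct WithConv

namespace K411.Tate

/-- Saturation data of an injective map of Hopf algebras. -/
structure SatD (R : Type u) [CommRing R] {P Q : Type u} [CommRing P] [HopfAlgebra R P] [CommRing Q] [HopfAlgebra R Q]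
    (f : Q →ₐc[R] P) where
  S : Type u
  [ring : CommRing S]
  [hopf : HopfAlgebra R S]
  [cocomm : Coalgebra.IsCocomm R S]
  [fin : Module.Finite R S]
  [free : Module.Free R S]
  ι : Q →ₐc[R] S
  κ : S →ₐc[R] P
  ι_inj : Function.Injective ι
  κ_inj : Function.Injective κ
  κ_ι : ∀ x, κ (ι x) = f x
  κ_sat : ∀ (r : R) (x : P), r ≠ 0 → (∃ a, κ a = r • x) → ∃ a, κ a = x
  ι_gen : ∀ x : S, ∃ r : R, r ≠ 0 ∧ ∃ a, ι a = r • x
  rank : Module.finrank R S = Module.finrank R Q

attribute [instance] SatD.ring SatD.hopf SatD.cocomm SatD.fin SatD.free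

section

variable {R : Type u} [CommRing R] [IsDomain R] [IsPrincipalIdealRing R]

theorem nonempty_satD {P Q : Type u} [CommRing P] [HopfAlgebra R P] [Module.Finite R P] [Module.Free R P]
    [Coalgebra.IsCocomm R P] [CommRing Q] [HopfAlgebra R Q] [Module.Finite R Q]
    (f : Q →ₐc[R] P) (hf : Function.Injective f) : Nonempty (SatD R f) := by
  obtain ⟨S, _, _, _, _, _, ι, κ, h1, h2, h3, h4, h5, h6⟩ := Sat.exists_sat f hf
  exact ⟨⟨S, ι, κ, h1, h2, h3, h4, h5, h6⟩⟩

end

/-- A tower of finite free Hopf algebras which is generically a Barsotti–Tate system. -/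
structure PreSys (R : Type u) [CommRing R] (p h : ℕ) where
  B : ℕ → Type u
  [ring : ∀ n, CommRing (B n)]
  [hopf : ∀ n, HopfAlgebra R (B n)]
  [cocomm : ∀ n, Coalgebra.IsCocomm R (B n)]
  [fin : ∀ n, Module.Finite R (B n)]
  [free : ∀ n, Module.Free R (B n)]
  rank : ∀ n, Module.finrank R (B n) = p ^ (n * h)
  res : ∀ n, B (n + 1) →ₐc[R] B n
  inf : ∀ n, B n →ₐc[R] B (n + 1)
  res_surj : ∀ n, Function.Surjective (res n)
  inf_inj : ∀ n, Function.Injective (inf n)
  res_inf : ∀ n x, res n (inf n x) = ((toConv (BialgHom.id R (B n))) ^ p).ofConv x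
  inf_res : ∀ n x, inf n (res n x) = ((toConv (BialgHom.id R (B (n + 1)))) ^ p).ofConv x

attribute [instance] PreSys.ring PreSys.hopf PreSys.cocomm PreSys.fin PreSys.free

/-- a Hopf algebra of rank one is trivial -/
theorem eq_counit {R : Type u} [CommRing R] [IsDomain R] {B : Type u} [CommRing B] [HopfAlgebra R B]
    [Module.Finite R B] [Module.Free R B] (h : Module.finrank R B = 1) (x : B) :
    x = algebraMap R B (Coalgebra.counit x) := by
  let b := Module.finBasisOfFinrankEq R B h
  have hb : ∀ y : B, y = b.repr y 0 • b 0 := fun y => by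
    conv_lhs => rw [← b.sum_repr y]
    simp
  have h1 : (1 : R) = b.repr 1 0 * Coalgebra.counit (R := R) (b 0) := by
    have := congrArg (Coalgebra.counit (R := R)) (hb 1)
    rwa [map_smul, Bialgebra.counit_one, smul_eq_mul] at this
  conv_rhs => rw [hb x, map_smul, smul_eq_mul, Algebra.algebraMap_eq_smul_one, hb 1, smul_smul, mul_assoc,
    mul_comm (Coalgebra.counit (b 0)), ← h1, mul_one]
  exact hb x

namespace PreSys

variable {R : Type u} [CommRing R] {p h : ℕ} (E : PreSys R p h)

/-- restriction to the first layer -/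
noncomputable def res1 : ∀ n, E.B (n + 1) →ₐc[R] E.B 1
  | 0 => BialgHom.id R _
  | n + 1 => (res1 n).comp (E.res (n + 1))

theorem res1_surj : ∀ n, Function.Surjective (E.res1 n)
  | 0 => Function.surjective_id
  | n + 1 => (res1_surj n).comp (E.res_surj (n + 1))

theorem res_inf_eq (n : ℕ) (x : E.B (n + 1)) : E.res (n + 1) (E.inf (n + 1) x) = E.inf n (E.res n x) := by
  rw [E.res_inf, E.inf_res]

theorem res1_inf [IsDomain R] : ∀ (n : ℕ) (x : E.B n), E.res1 n (E.inf n x) = algebraMap R _ (Coalgebra.counit x)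
  | 0, x => by
    change E.inf 0 x = _
    have h1 := eq_counit (by rw [E.rank, Nat.zero_mul, pow_zero]) x
    conv_lhs => rw [h1]
    exact AlgHomClass.commutes (E.inf 0) _
  | n + 1, x => by
    change E.res1 n (E.res (n + 1) (E.inf (n + 1) x)) = _
    rw [res_inf_eq, res1_inf n, CoalgHomClass.counit_comp_apply]

theorem rank_succ (n : ℕ) : Module.finrank R (E.B (n + 1)) = Module.finrank R (E.B n) * Module.finrank R (E.B 1) := by
  rw [E.rank, E.rank, E.rank, ← pow_add]
  congr 1
  ring

variable [IsDomain R] [IsPrincipalIdealRing R]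

/-- the saturation data of `inf n` -/
noncomputable def sd (n : ℕ) : SatD R (E.inf n) := Classical.choice (nonempty_satD (E.inf n) (E.inf_inj n))

theorem res'_aux (n : ℕ) (x : (E.sd (n + 1)).S) : ∃ y, (E.sd n).κ y = E.res (n + 1) ((E.sd (n + 1)).κ x) := by
  obtain ⟨r, hr, a, ha⟩ := (E.sd (n + 1)).ι_gen x
  apply (E.sd n).κ_sat r _ hr
  refine ⟨(E.sd n).ι (E.res n a), ?_⟩
  rw [(E.sd n).κ_ι, ← res_inf_eq, ← map_smul, ← map_smul, ← ha, (E.sd (n + 1)).κ_ι]

/-- the induced restriction map -/
noncomputable def res' (n : ℕ) : (E.sd (n + 1)).S →ₐc[R] (E.sd n).S :=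
  (Lift.exists_lift (E.sd n).κ (E.sd n).κ_inj ((E.res (n + 1)).comp (E.sd (n + 1)).κ) (E.res'_aux n)).choose

theorem κ_res' (n : ℕ) (x : (E.sd (n + 1)).S) : (E.sd n).κ (E.res' n x) = E.res (n + 1) ((E.sd (n + 1)).κ x) :=
  (Lift.exists_lift (E.sd n).κ (E.sd n).κ_inj ((E.res (n + 1)).comp (E.sd (n + 1)).κ) (E.res'_aux n)).choose_spec x

end PreSys

end K411.Tate
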