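import Mathlib.RingTheory.HopfAlgebra.Convolution
import Mathlib.RingTheory.Flat.Basic
import Mathlib.RingTheory.FiniteType

/-!
# Flat sub-Hopf algebras of flat commutative Hopf algebras over a ring
-/

set_option autoImplicit false

universe u v w

open TensorProduct

namespace K411.SubHopf

variable {k : Type u} {A : Type v} [CommRing k] [CommRing A] [HopfAlgebra k A] (B : Subalgebra k A)
  [Module.Flat k A] [Module.Flat k B]

/-- The inclusion `B ⊗ B → A ⊗ A`. -/
noncomputable def incl2 : B ⊗[k] B →ₐ[k] A ⊗[k] A := Algebra.TensorProduct.map B.val B.val

lemma incl2_tmul (x y : B) : incl2 B (x ⊗ₜ y) = (x : A) ⊗ₜ[k] (y : A) := rfl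

lemma incl2_injective : Function.Injective (incl2 B) := by
  have h1 : Function.Injective (TensorProduct.map B.val.toLinearMap B.val.toLinearMap) := by
    have h2 : TensorProduct.map B.val.toLinearMap B.val.toLinearMap =
      (B.val.toLinearMap.rTensor A) ∘ₗ (B.val.toLinearMap.lTensor B) := by
      ext x y
      rfl
    rw [h2]
    exact (Module.Flat.rTensor_preserves_injective_linearMap _ Subtype.val_injective).comp
      (Module.Flat.lTensor_preserves_injective_linearMap _ Subtype.val_injective)
  exact h1

/-- A subalgebra is a sub-Hopf algebra. -/
structure IsSubHopf (B : Subalgebra k A) : Prop where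
  comul_mem : ∀ b ∈ B, CoalgebraStruct.comul (R := k) (A := A) b ∈
    LinearMap.range (TensorProduct.map B.val.toLinearMap B.val.toLinearMap)
  antipode_mem : ∀ b ∈ B, HopfAlgebraStruct.antipode (R := k) (A := A) b ∈ B

variable {B}

namespace IsSubHopf

/-- The comultiplication of a sub-Hopf algebra. -/
noncomputable def comulSub (hB : IsSubHopf (k := k) B) : B →ₐ[k] B ⊗[k] B :=
  (AlgEquiv.ofInjective (incl2 B) (incl2_injective B)).symm.toAlgHom.comp
    (((Bialgebra.comulAlgHom k A).comp B.val).codRestrict (incl2 B).range
      (fun b => hB.comul_mem b b.2))

lemma incl2_comulSub (hB : IsSubHopf (k := k) B) (b : B) : incl2 B (hB.comulSub b) =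
    CoalgebraStruct.comul (R := k) (b : A) := by
  have h := AlgEquiv.apply_symm_apply (AlgEquiv.ofInjective (incl2 B) (incl2_injective B))
    (((Bialgebra.comulAlgHom k A).comp B.val).codRestrict (incl2 B).range
      (fun b => hB.comul_mem b b.2) b)
  exact congrArg Subtype.val h

/-- The counit of a subalgebra. -/
noncomputable def counitSub (B : Subalgebra k A) : B →ₐ[k] k :=
  (Bialgebra.counitAlgHom k A).comp B.val

/-- The antipode of a sub-Hopf algebra. -/
noncomputable def antipodeSub (hB : IsSubHopf (k := k) B) : B →ₐ[k] B :=
  ((HopfAlgebra.antipodeAlgHom k A).comp B.val).codRestrict B (fun b => hB.antipode_mem b b.2)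

lemma coe_antipodeSub (hB : IsSubHopf (k := k) B) (b : B) : (hB.antipodeSub b : A) =
    HopfAlgebraStruct.antipode k (b : A) := rfl

/-- The bialgebra structure on a sub-Hopf algebra. -/
noncomputable abbrev bialg (hB : IsSubHopf (k := k) B) : Bialgebra k B :=
  Bialgebra.ofAlgHom hB.comulSub (counitSub B)
    (by
      have hinj : Function.Injective
          (Algebra.TensorProduct.map B.val (incl2 B) : B ⊗[k] (B ⊗[k] B) →ₐ[k] _) := by
        have h2 : (Algebra.TensorProduct.map B.val (incl2 B)).toLinearMap =
          (B.val.toLinearMap.rTensor (A ⊗[k] A)) ∘ₗ ((incl2 B).toLinearMap.lTensor B) := by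
          ext x y
          rfl
        have h3 : Function.Injective (Algebra.TensorProduct.map B.val (incl2 B)).toLinearMap := by
          rw [h2]
          exact (Module.Flat.rTensor_preserves_injective_linearMap _ Subtype.val_injective).comp
            (Module.Flat.lTensor_preserves_injective_linearMap _ (incl2_injective B))
        exact h3
      apply AlgHom.ext
      intro b
      apply hinj
      have h1 : ∀ z : B ⊗[k] B, (Algebra.TensorProduct.map B.val (incl2 B))
          ((Algebra.TensorProduct.assoc k k k B B B).toAlgHom
            (Algebra.TensorProduct.map hB.comulSub (.id k B) z)) =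
          (Algebra.TensorProduct.assoc k k k A A A).toAlgHom
            (Algebra.TensorProduct.map (Bialgebra.comulAlgHom k A) (.id k A) (incl2 B z)) := by
        intro z
        induction z with
        | zero => simp
        | tmul x y =>
          simp only [Algebra.TensorProduct.map_tmul, AlgHom.id_apply, incl2_tmul,
            Bialgebra.comulAlgHom_apply]
          rw [← incl2_comulSub hB x]
          generalize hB.comulSub x = w
          induction w with
          | zero => simp
          | tmul x' y' => rfl
          | add x' y' hx hy => simp only [TensorProduct.add_tmul, map_add, hx, hy]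
        | add x y hx hy => simp only [map_add, hx, hy]
      have h2 : ∀ z : B ⊗[k] B, (Algebra.TensorProduct.map B.val (incl2 B))
          (Algebra.TensorProduct.map (.id k B) hB.comulSub z) =
            (Algebra.TensorProduct.map (.id k A) (Bialgebra.comulAlgHom k A) (incl2 B z)) := by
        intro z
        induction z with
        | zero => simp
        | tmul x y =>
          simp only [Algebra.TensorProduct.map_tmul, AlgHom.id_apply, incl2_tmul,
            Bialgebra.comulAlgHom_apply]
          rw [← incl2_comulSub hB y]
          rfl
        | add x y hx hy => simp only [map_add, hx, hy]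
      change (Algebra.TensorProduct.map B.val (incl2 B))
          ((Algebra.TensorProduct.assoc k k k B B B).toAlgHom
            (Algebra.TensorProduct.map hB.comulSub (.id k B) (hB.comulSub b))) =
        (Algebra.TensorProduct.map B.val (incl2 B))
          (Algebra.TensorProduct.map (.id k B) hB.comulSub (hB.comulSub b))
      rw [h1, h2, incl2_comulSub]
      exact Coalgebra.coassoc_apply (R := k) (b : A))
    (by
      apply AlgHom.ext
      intro b
      apply Module.Flat.lTensor_preserves_injective_linearMap (M := k) B.val.toLinearMap
        Subtype.val_injective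
      have h1 : ∀ z : B ⊗[k] B, (B.val.toLinearMap.lTensor k)
          (Algebra.TensorProduct.map (counitSub B) (.id k B) z) =
          (CoalgebraStruct.counit (R := k) (A := A)).rTensor A (incl2 B z) := by
        intro z
        induction z with
        | zero => simp
        | tmul x y => rfl
        | add x y hx hy => simp only [map_add, hx, hy]
      change (B.val.toLinearMap.lTensor k)
          (Algebra.TensorProduct.map (counitSub B) (.id k B) (hB.comulSub b)) = 1 ⊗ₜ (b : A)
      rw [h1, incl2_comulSub, Coalgebra.rTensor_counit_comul])
    (by
      apply AlgHom.ext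
      intro b
      apply Module.Flat.rTensor_preserves_injective_linearMap (M := k) B.val.toLinearMap
        Subtype.val_injective
      have h1 : ∀ z : B ⊗[k] B, (B.val.toLinearMap.rTensor k)
          (Algebra.TensorProduct.map (.id k B) (counitSub B) z) =
          (CoalgebraStruct.counit (R := k) (A := A)).lTensor A (incl2 B z) := by
        intro z
        induction z with
        | zero => simp
        | tmul x y => rfl
        | add x y hx hy => simp only [map_add, hx, hy]
      change (B.val.toLinearMap.rTensor k)
          (Algebra.TensorProduct.map (.id k B) (counitSub B) (hB.comulSub b)) = (b : A) ⊗ₜ 1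
      rw [h1, incl2_comulSub, Coalgebra.lTensor_counit_comul])

/-- The Hopf algebra structure on a sub-Hopf algebra. -/
noncomputable abbrev hopf (hB : IsSubHopf (k := k) B) : HopfAlgebra k B :=
  { hB.bialg with
    antipode := hB.antipodeSub.toLinearMap
    mul_antipode_rTensor_comul := by
      letI := hB.bialg
      apply LinearMap.ext
      intro b
      apply Subtype.val_injective
      have h1 : ∀ z : B ⊗[k] B, ((LinearMap.mul' k B
          ((hB.antipodeSub.toLinearMap.rTensor B) z) : B) : A) =
          LinearMap.mul' k A ((HopfAlgebraStruct.antipode k).rTensor A (incl2 B z)) := by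
        intro z
        induction z with
        | zero => simp
        | tmul x y => rfl
        | add x y hx hy => simp only [map_add, ← hx, ← hy]; rfl
      change ((LinearMap.mul' k B
          ((hB.antipodeSub.toLinearMap.rTensor B) (hB.comulSub b)) : B) : A) =
          algebraMap k A (CoalgebraStruct.counit (R := k) (b : A))
      rw [h1, incl2_comulSub]
      exact LinearMap.congr_fun (HopfAlgebra.mul_antipode_rTensor_comul (R := k) (A := A)) (b : A)
    mul_antipode_lTensor_comul := by
      letI := hB.bialg
      apply LinearMap.ext
      intro b
      apply Subtype.val_injective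
      have h1 : ∀ z : B ⊗[k] B, ((LinearMap.mul' k B
          ((hB.antipodeSub.toLinearMap.lTensor B) z) : B) : A) =
          LinearMap.mul' k A ((HopfAlgebraStruct.antipode k).lTensor A (incl2 B z)) := by
        intro z
        induction z with
        | zero => simp
        | tmul x y => rfl
        | add x y hx hy => simp only [map_add, ← hx, ← hy]; rfl
      change ((LinearMap.mul' k B
          ((hB.antipodeSub.toLinearMap.lTensor B) (hB.comulSub b)) : B) : A) =
          algebraMap k A (CoalgebraStruct.counit (R := k) (b : A))
      rw [h1, incl2_comulSub]
      exact LinearMap.congr_fun (HopfAlgebra.mul_antipode_lTensor_comul (R := k) (A := A)) (b : A) }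

/-- The inclusion of a sub-Hopf algebra as a bialgebra map. -/
noncomputable def val (hB : IsSubHopf (k := k) B) :
    letI := hB.hopf
    B →ₐc[k] A :=
  letI := hB.hopf
  BialgHom.ofAlgHom B.val rfl (by
    apply AlgHom.ext
    intro b
    exact hB.incl2_comulSub b)

lemma val_apply (hB : IsSubHopf (k := k) B) (b : B) : 
    letI := hB.hopf
    hB.val b = (b : A) := rfl

lemma val_injective (hB : IsSubHopf (k := k) B) :
    letI := hB.hopf
    Function.Injective hB.val := Subtype.val_injective

end IsSubHopf

end K411.SubHopf
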